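import Groth.Agent.AlgSt.K744.QuotFp
import Groth.Agent.NonAbH1.K551.Tors
import Groth.Agent.AlgSt.K735.Rep
import Groth.Agent.AlgSt.K734.Fib
import Groth.Agent.AlgSp.K597.EtLoc
import Groth.Agent.AlgSp.K597.LocP
import Groth.Agent.AlgSp.K609.Points

/-!
# Properties of the structure morphism of a torsor; the chart `X ⟶ [X/G]`
-/

set_option autoImplicit false
set_option backward.isDefEq.respectTransparency false
set_option backward.isDefEq.respectTransparency.types false

universe w v u

open CategoryTheory CategoryTheory.Limits MonoidalCategory CartesianMonoidalCategory MonObj GrpObj AlgebraicGeometry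
open Groth.Agent.Books.BorelOrb AlgSt

namespace K744.TorsProp

open K744.Quot K744.IsomFp K744.QuotFp

variable {S : Scheme.{u}} {G : Over S} [GrpObj G] {X : Over S} {aX : AlgGrp.Action G X}

/-- an fppf torsor is trivialised by one fppf covering -/
theorem exists_cover (A : QuotObj Scheme.fppfPrecoverage G aX) :
    ∃ (T' : Scheme.{u}) (c : T' ⟶ A.base.left), Surjective c ∧ Flat c ∧ LocallyOfFinitePresentation c ∧
      ∃ s : T' ⟶ A.P.left, s ≫ A.π.left = c :=
  K551.Tors.exists_cover_of_isLocallyTrivial A.loc

theorem isPullback_left {A B C D : Over S} {f : A ⟶ B} {g : A ⟶ C} {h : B ⟶ D} {i : C ⟶ D} (sq : IsPullback f g h i) :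
    IsPullback f.left g.left h.left i.left := sq.map (Over.forget S)

/-- the structure morphism of an fppf torsor inherits the properties of the group which descend. -/
theorem prop_of_torsor (A : QuotObj Scheme.fppfPrecoverage G aX) (P : MorphismProperty Scheme.{u})
    [P.IsStableUnderBaseChange] [P.DescendsAlong (@Surjective ⊓ @Flat ⊓ @LocallyOfFinitePresentation)]
    (hG : P G.hom) : P A.π.left := by
  obtain ⟨T', c, hc1, hc2, hc3, s, hs⟩ := exists_cover A
  -- the projection `G × P ⟶ P`
  have h1 : P (snd G A.P).left := by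
    have sq := isPullback_left (isPullback_fst_snd G A.P)
    refine MorphismProperty.of_isPullback sq ?_
    have : (toUnit G).left = G.hom := by
      simp
    rw [this]
    exact hG
  have sq := isPullback_left A.cart
  -- pull back along `s`
  have sq2 := IsPullback.of_hasPullback (snd G A.P).left s
  have h2 : P (pullback.snd (snd G A.P).left s) := MorphismProperty.pullback_snd _ _ h1
  have sq3 := sq2.flip.paste_vert sq.flip
  rw [hs] at sq3
  exact MorphismProperty.of_isPullback_of_descendsAlong (P := P)
    (Q := @Surjective ⊓ @Flat ⊓ @LocallyOfFinitePresentation) sq3.flip.flip ⟨⟨hc1, hc2⟩, hc3⟩ h2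

theorem flat_of_torsor (A : QuotObj Scheme.fppfPrecoverage G aX) [Flat G.hom] : Flat A.π.left :=
  haveI := Groth.Agent.Sga3.H804.EtFam.flat_descends.{u}
  prop_of_torsor A @Flat inferInstance

theorem lfp_of_torsor (A : QuotObj Scheme.fppfPrecoverage G aX) [LocallyOfFinitePresentation G.hom] :
    LocallyOfFinitePresentation A.π.left :=
  prop_of_torsor A @LocallyOfFinitePresentation inferInstance

theorem smooth_of_torsor (A : QuotObj Scheme.fppfPrecoverage G aX) [Smooth G.hom] : Smooth A.π.left :=
  prop_of_torsor A @Smooth inferInstance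

theorem isAffineHom_of_torsor (A : QuotObj Scheme.fppfPrecoverage G aX) [IsAffineHom G.hom] : IsAffineHom A.π.left :=
  prop_of_torsor A @IsAffineHom inferInstance

theorem surjective_of_torsor (A : QuotObj Scheme.fppfPrecoverage G aX) : Surjective A.π.left := by
  obtain ⟨S', c, hc, -, -, s, hs⟩ := exists_cover A
  have : Surjective (s ≫ A.π.left) := by rw [hs]; exact hc
  exact Surjective.of_comp s A.π.left

/-- the main statement about the chart: it is representable by the torsors, with any property they have. -/
theorem repByAlgSpWith_chart (Q : MorphismProperty (AlgSp.Sp S))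
    (h : ∀ A : QuotObj Scheme.fppfPrecoverage G aX, Q ((AlgSp.yon S).map A.π)) :
    RepByAlgSpWith Q (chart Scheme.fppfPrecoverage G aX) := by
  intro U y
  obtain ⟨e, he, he1, -⟩ := exists_isEquivOver_overCat y
  refine ⟨⟨(AlgSp.yon S).obj (tors y).P, AlgSp.IsAlgSpace.yon_obj _⟩,
    BasedFunctor.comp (toOverCat (tors y).P) e, ?_, ?_⟩
  · exact K734.Fib.isEquivOver_comp (K735.Rep.isEquivOver_toOverCat _) he
  · have h1 : BasedFunctor.comp (BasedFunctor.comp (toOverCat (tors y).P) e)
        (FibCat.fpFst y (chart Scheme.fppfPrecoverage G aX)) = BasedFunctor.comp (toOverCat (tors y).P) (ovMap (strU y)) :=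
      congrArg (BasedFunctor.comp (toOverCat (tors y).P)) he1
    have h2 : ∀ (A : QuotObj Scheme.fppfPrecoverage G aX) (V : Over S) (e : A.base = V),
        Q ((AlgSp.yon S).map (A.π ≫ eqToHom e)) := by
      rintro A _ rfl
      rw [eqToHom_refl, Category.comp_id]
      exact h A
    rw [h1, spMapOfOver_toOverCat_ovMap]
    exact h2 (tors y) U (tors_base y)

theorem locP_yon (P : MorphismProperty Scheme.{u}) [P.IsStableUnderBaseChange] (hP : K597.EtLoc P) {U V : Over S}
    (f : U ⟶ V) (hf : P f.left) : AlgSp.LocP P ((AlgSp.yon S).map f) :=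
  K597.locP_of_repWith hP.precomp ((AlgSp.repWith_yon_map_iff P f).2 hf)

theorem surj_yon {U V : Over S} (f : U ⟶ V) (hf : Surjective f.left) : AlgSp.IsSurjectiveMor ((AlgSp.yon S).map f) :=
  (K609.Points.repWith_surjective_iff (AlgSp.representable_yon_map f)).1 ((AlgSp.repWith_yon_map_iff _ f).2 hf)

end K744.TorsProp
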