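import Groth.Agent.AlgSt.K735.Rep
import Groth.Agent.AlgSt.K734.Yon2
import Groth.Agent.AlgSt.K734.FibFp
import Groth.Agent.AlgSt.K744.TorsProp
import Groth.Agent.S12797
import Groth.Agent.S12775

/-!
# Schemes are algebraic stacks (helper744): `K744.AlgOver.isAlgStack_overCat`
-/

set_option autoImplicit false
set_option backward.isDefEq.respectTransparency false
set_option backward.isDefEq.respectTransparency.types false
universe u₅ v₅ u
open CategoryTheory CategoryTheory.Limits AlgebraicGeometry Opposite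

namespace K744.AlgOver

open AlgSt
variable {S : Scheme.{u}}

/-- The fibre product of `(Sch/U)` with itself over the base category. -/
theorem exists_isEquivOver_fp (U V : Over S) :
    ∃ e : FibCat.overCat (Over.mk (pullback.fst U.hom V.hom ≫ U.hom) : Over S) ⥤ᵇ
      FibCat.fp (FibCat.toSelf (FibCat.overCat U)) (FibCat.toSelf (FibCat.overCat V)), FibCat.IsEquivOver e := by
  let p : (Over.mk (pullback.fst U.hom V.hom ≫ U.hom) : Over S) ⟶ U := Over.homMk (pullback.fst U.hom V.hom) rfl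
  let q : (Over.mk (pullback.fst U.hom V.hom ≫ U.hom) : Over S) ⟶ V :=
    Over.homMk (pullback.snd U.hom V.hom) pullback.condition.symm
  let e : BasedFunctor.comp (K734.Fib.overMap p) (FibCat.toSelf (FibCat.overCat U)) ≅
    BasedFunctor.comp (K734.Fib.overMap q) (FibCat.toSelf (FibCat.overCat V)) := Iso.refl _
  refine ⟨FibCat.fpLift (K734.Fib.overMap p) (K734.Fib.overMap q) e, ?_⟩
  have happ : ∀ w, (K734.Fib.app e w).hom = 𝟙 (w.left) := fun _ => rfl
  have hext : ∀ {T : Over S} {a b : T ⟶ Over.mk (pullback.fst U.hom V.hom ≫ U.hom)},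
      a ≫ p = b ≫ p → a ≫ q = b ≫ q → a = b := by
    intro T a b h1 h2
    apply Over.OverMorphism.ext
    apply pullback.hom_ext
    · exact congrArg CommaMorphism.left h1
    · exact congrArg CommaMorphism.left h2
  refine K734.Fib.isTwoCart_of _ _ _ ?_ ?_ ?_
  · intro w w' f g hfg
    have hfg' : f.left = g.left := by
      have h := hfg
      rw [happ, happ] at h
      erw [Category.comp_id, Category.id_comp] at h
      exact h
    have h1 : f.left ≫ (w'.hom ≫ p) = w.hom ≫ p := Over.w f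
    have h2 : g.left ≫ (w'.hom ≫ q) = w.hom ≫ q := Over.w g
    refine ⟨Over.homMk f.left (hext ?_ ?_), Over.OverMorphism.ext rfl, Over.OverMorphism.ext hfg'⟩
    · rw [Category.assoc]; exact h1
    · rw [Category.assoc, hfg']; exact h2
  · intro w w' h h' h1 h2
    exact Over.OverMorphism.ext (congrArg (fun k => k.left) h1)
  · intro x y φ hφ
    have hc : x.hom.left ≫ U.hom = (φ.hom.left ≫ y.hom.left) ≫ V.hom := by
      rw [Over.w x.hom, Category.assoc, Over.w y.hom]
      exact (Over.w φ.hom).symm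
    let l : x.left ⟶ (Over.mk (pullback.fst U.hom V.hom ≫ U.hom) : Over S) :=
      Over.homMk (pullback.lift x.hom.left (φ.hom.left ≫ y.hom.left) hc) (by
        change pullback.lift _ _ _ ≫ pullback.fst U.hom V.hom ≫ U.hom = _
        rw [pullback.lift_fst_assoc, Over.w x.hom])
    have hl1 : l ≫ p = x.hom := Over.OverMorphism.ext (pullback.lift_fst _ _ _)
    have hl2 : l ≫ q = φ.hom ≫ y.hom := Over.OverMorphism.ext (pullback.lift_snd _ _ _)
    let α : (K734.Fib.overMap p).obj (Over.mk l) ≅ x := Over.isoMk (Iso.refl _) (by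
      change 𝟙 _ ≫ x.hom = l ≫ p
      rw [hl1, Category.id_comp])
    let β : (K734.Fib.overMap q).obj (Over.mk l) ≅ y := Over.isoMk φ (by
      change φ.hom ≫ y.hom = l ≫ q
      rw [hl2])
    refine ⟨Over.mk l, α, β, ?_, ?_⟩
    · exact K734.Fib.isVert_iff.2 ⟨rfl, rfl⟩
    · rw [happ]
      change 𝟙 _ ≫ φ.hom = 𝟙 _ ≫ φ.hom
      rfl

theorem repOver_of_isEquivOver {𝒲 : BasedCategory.{v₅, u₅} (Over S)} {U : Over S} (w : 𝒲 ⥤ᵇ FibCat.overCat U)
    (hw : FibCat.IsEquivOver w) (P : MorphismProperty (AlgSp.Sp S)) (hP : P (𝟙 ((AlgSp.yon S).obj U))) :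
    K735.Rep.RepOver P w := by
  obtain ⟨k, hk, -, ⟨b⟩⟩ := K735.Fib.IsEquivOver.exists_inv hw
  refine ⟨⟨(AlgSp.yon S).obj U, AlgSp.IsAlgSpace.yon_obj _⟩, BasedFunctor.comp (toOverCat U) k,
    K735.Fib.IsEquivOver.comp (K735.Rep.isEquivOver_toOverCat U) hk, ?_⟩
  have : AlgSt.spMapOfOver (BasedFunctor.comp (BasedFunctor.comp (toOverCat U) k) w) =
      AlgSt.spMapOfOver (toOverCat U) :=
    K735.Rep.spMapOfOver_eq_of_iso (K735.Fib.whiskerLeftIso (toOverCat U) b)
  rw [this, K735.Rep.spMapOfOver_toOverCat]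
  exact hP

theorem repByAlgSpWith_of_isEquivOver {𝒲 𝒱 : BasedCategory.{v₅, u₅} (Over S)} (w : 𝒲 ⥤ᵇ 𝒱)
    (hw : FibCat.IsEquivOver w) (P : MorphismProperty (AlgSp.Sp S)) (hP : ∀ U, P (𝟙 ((AlgSp.yon S).obj U))) :
    AlgSt.RepByAlgSpWith P w := fun U y =>
  repOver_of_isEquivOver _ (K734.Fib.isEquivOver_fpFst y w hw) P (hP U)

theorem isAlgStack_overCat (U : Over S) : IsAlgStack Scheme.fppfPrecoverage (FibCat.overCat U) where
  isStack := (Groth.Agent.S12797.result _ U).2
    (GrothendieckTopology.Subcanonical.isSheaf_of_isRepresentable (J := QuotSh.J Scheme.fppfPrecoverage S) (yoneda.obj U))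
  diag := by
    obtain ⟨e, he⟩ := exists_isEquivOver_fp U U
    refine Groth.Agent.S12775.result (K735.Fp.isFibGrpd_overCat U) ?_ ⟨⟨(AlgSp.yon S).obj U, AlgSp.IsAlgSpace.yon_obj _⟩,
      toOverCat U, K735.Rep.isEquivOver_toOverCat U⟩ ?_ _
    · exact K735.Fp.isFibGrpd_fp (K735.Fp.isFibGrpd_overCat U) (K735.Fp.isFibGrpd_overCat U)
        K735.Fp.isFibGrpd_selfOver _ _
    · exact ⟨⟨(AlgSp.yon S).obj _, AlgSp.IsAlgSpace.yon_obj _⟩, BasedFunctor.comp (toOverCat _) e,
        K735.Fib.IsEquivOver.comp (K735.Rep.isEquivOver_toOverCat _) he⟩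
  atlas := by
    refine ⟨U, BasedFunctor.id _, ?_, ?_⟩
    · refine repByAlgSpWith_of_isEquivOver _ (K734.Fib.isEquivOver_refl _) _ (fun V => ?_)
      rw [← CategoryTheory.Functor.map_id]
      exact TorsProp.locP_yon @Smooth K597.etLoc_smooth (𝟙 V) (inferInstanceAs (Smooth (𝟙 V.left)))
    · refine repByAlgSpWith_of_isEquivOver _ (K734.Fib.isEquivOver_refl _) _ (fun V => ?_)
      rw [← CategoryTheory.Functor.map_id]
      exact TorsProp.surj_yon (𝟙 V) (inferInstanceAs (Surjective (𝟙 V.left)))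

end K744.AlgOver
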