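import Groth.Agent.AlgSt.K744.Quot

/-!
# `[X/G]` is fibred in groupoids; base change of objects
-/

set_option autoImplicit false
set_option backward.isDefEq.respectTransparency false
set_option backward.isDefEq.respectTransparency.types false

universe w v u

open CategoryTheory CategoryTheory.Limits MonoidalCategory CartesianMonoidalCategory MonObj GrpObj AlgebraicGeometry
open Groth.Agent.Books.BorelOrb AlgSt

namespace K744.QuotFib

open K744.Quot

variable {S : Scheme.{u}} {K : Precoverage Scheme.{u}} {G : Over S} [GrpObj G] {X : Over S} {aX : AlgGrp.Action G X}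

/-- base change of local triviality -/
theorem isLocallyTrivialFor_of_isPullback [K.IsStableUnderBaseChange] {P P' T T' : Over S} {p : P' ⟶ P} {π' : P' ⟶ T'}
    {π : P ⟶ T} {f : T' ⟶ T} (h : IsPullback p π' π f)
    (hl : NonAbH1.IsLocallyTrivialFor K (Over.mk π.left : Over T.left)) :
    NonAbH1.IsLocallyTrivialFor K (Over.mk π'.left : Over T'.left) := by
  obtain ⟨R, hR, H⟩ := hl
  refine ⟨R.pullbackArrows f.left, K.pullbackArrows_mem f.left hR, ?_⟩
  rintro S' g ⟨Z, q, hq⟩
  obtain ⟨s, hs⟩ := H q hq
  change s ≫ π.left = q at hs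
  have h' : IsPullback p.left π'.left π.left f.left := h.map (Over.forget S)
  refine ⟨h'.lift (pullback.fst q f.left ≫ s) (pullback.snd q f.left) ?_, ?_⟩
  · rw [Category.assoc, hs, pullback.condition]
  · exact h'.lift_snd _ _ _

section

variable {P T V : Over S} (a : AlgGrp.Action G P) (π : P ⟶ T) (f : V ⟶ T)
  (hinv : a.act ≫ π = snd G P ≫ π)

/-- the action on the base change -/
noncomputable def bcAct : AlgGrp.Action G (pullback π f) where
  act := pullback.lift ((G ◁ pullback.fst π f) ≫ a.act) (snd G _ ≫ pullback.snd π f) (by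
    rw [Category.assoc, hinv, whiskerLeft_snd_assoc, Category.assoc, pullback.condition])
  one_act := by
    apply pullback.hom_ext
    · rw [Category.assoc, pullback.lift_fst, ← MonoidalCategory.whisker_exchange_assoc, a.one_act]
      simp
    · rw [Category.assoc, pullback.lift_snd, whiskerRight_snd_assoc]
      rfl
  mul_act := by
    apply pullback.hom_ext
    · simp only [Category.assoc, pullback.lift_fst]
      rw [← MonoidalCategory.whisker_exchange_assoc, a.mul_act]
      simp only [← MonoidalCategory.whiskerLeft_comp_assoc, pullback.lift_fst]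
      simp
    · simp only [Category.assoc, pullback.lift_snd]
      simp

end

theorem bcAct_fst {P T V : Over S} (a : AlgGrp.Action G P) (π : P ⟶ T) (f : V ⟶ T)
  (hinv : a.act ≫ π = snd G P ≫ π) :
    (bcAct a π f hinv).act ≫ pullback.fst π f = (G ◁ pullback.fst π f) ≫ a.act := pullback.lift_fst _ _ _

theorem bcAct_snd {P T V : Over S} (a : AlgGrp.Action G P) (π : P ⟶ T) (f : V ⟶ T)
  (hinv : a.act ≫ π = snd G P ≫ π) :
    (bcAct a π f hinv).act ≫ pullback.snd π f = snd G _ ≫ pullback.snd π f := pullback.lift_snd _ _ _

/-- the pullback of an object of `[X/G]` -/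
noncomputable def bc [K.IsStableUnderBaseChange] (A : QuotObj K G aX) {V : Over S} (f : V ⟶ A.base) :
    QuotObj K G aX where
  base := V
  P := pullback A.π f
  act := bcAct A.act A.π f A.cart.w
  π := pullback.snd A.π f
  cart := by
    -- the left square of `G × P' → P' → P` over `P' → T' → T`
    have h0 : IsPullback (pullback.fst A.π f) (pullback.snd A.π f) A.π f := IsPullback.of_hasPullback _ _
    have h1 : IsPullback (G ◁ pullback.fst A.π f) (snd G (pullback A.π f)) (snd G A.P) (pullback.fst A.π f) :=
      isPullback_whiskerLeft _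
    have h2 := h1.paste_horiz A.cart
    rw [h0.w] at h2
    rw [← bcAct_fst A.act A.π f A.cart.w] at h2
    exact IsPullback.of_right h2 (bcAct_snd A.act A.π f A.cart.w) h0
  loc := isLocallyTrivialFor_of_isPullback (IsPullback.of_hasPullback A.π f) A.loc
  φ := pullback.fst A.π f ≫ A.φ
  eqv := by
    rw [← Category.assoc, bcAct_fst, Category.assoc, A.eqv, MonoidalCategory.whiskerLeft_comp, Category.assoc]

/-- the projection from the pullback -/
noncomputable def bcHom [K.IsStableUnderBaseChange] (A : QuotObj K G aX) {V : Over S} (f : V ⟶ A.base) :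
    bc A f ⟶ A where
  base := f
  top := pullback.fst A.π f
  eqv := bcAct_fst A.act A.π f A.cart.w
  cart := IsPullback.of_hasPullback _ _
  wφ := rfl

theorem isFibGrpd [K.IsStableUnderBaseChange] : FibCat.IsFibGrpd (QuotObj.forget K G aX) where
  exists_lift := fun {x} {V} f => ⟨bc x f, bcHom x f, IsHomLift.map (QuotObj.forget K G aX) (bcHom x f)⟩
  isStronglyCartesian := fun φ => isStronglyCartesian φ

end K744.QuotFib
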