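import Groth.Agent.AlgSt.K744.SpQDes

/-!
# `[X/G]` with sheaf torsors is a stack (helper744)

`K744.SpQ.isStack : Stk.IsStack (AlgSp.J S) (SpQuotSt Scheme.fppfPrecoverage G aX)` for every sheaf of groups `G`
over any fppf sheaf `B` acting on a sheaf `X` over `B`.
-/

set_option autoImplicit false
set_option backward.isDefEq.respectTransparency false
set_option backward.isDefEq.respectTransparency.types false

universe w v u

open CategoryTheory CategoryTheory.Limits MonoidalCategory CartesianMonoidalCategory MonObj GrpObj AlgebraicGeometry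
open AlgSt AlgSp

namespace K744.SpQ

variable {S : Scheme.{u}} {B : Sp S} {K : Precoverage Scheme.{u}} {G : Over B} [GrpObj G] {X : Over B}
  {aX : GAction G X} {U : Over S} {R : Sieve U}

/-- the cartesian square of a morphism out of `D i`, over the arrow `i` -/
theorem cart_of_hom {D : Stk.sieveCat R ⥤ᵇ SpQuotSt K G aX} {i : R.arrows.category} {Y : SpQuotObj K G aX}
    (θ : D.obj i ⟶ Y) (h : i.obj.left ⟶ Y.base) (hθ : θ.base = eb D i ≫ h) :
    IsPullback θ.top.left (qq D i) Y.π.left ((yon S).map h) := by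
  have h1 := isPullback_left θ.cart
  have h2 : IsPullback ((yon S).map θ.base) ((yon S).map (eb D i)) (𝟙 _) ((yon S).map h) :=
    IsPullback.of_vert_isIso ⟨by rw [← Functor.map_comp, ← hθ, Category.comp_id]⟩
  have h3 := h1.paste_vert h2
  have e : Y.π.left ≫ 𝟙 ((yon S).obj Y.base) = Y.π.left := Category.comp_id _
  rw [e] at h3
  exact h3

section Prestack

variable [K.IsStableUnderBaseChange] (A : SpQuotObj K G aX)

/-- the functor `(Sch/U) ⟶ [X/G]` of an object over `U`, restricted to a sieve -/
noncomputable abbrev resYo (R : Sieve A.base) : Stk.sieveCat R ⥤ᵇ SpQuotSt K G aX :=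
  BasedFunctor.comp (Stk.sieveIncl R) (K751.Test.yo (𝒳 := SpQuotSt K G aX) isFibGrpd A rfl)

noncomputable abbrev ιYo (R : Sieve A.base) (i : R.arrows.category) : (resYo A R).obj i ⟶ A :=
  K751.Test.yoε (𝒳 := SpQuotSt K G aX) isFibGrpd A rfl i.obj

theorem ιYo_base (R : Sieve A.base) (i : R.arrows.category) : (ιYo A R i).base = eb (resYo A R) i ≫ i.obj.hom := by
  have h1 := K751.Test.yoε_lift (𝒳 := SpQuotSt K G aX) isFibGrpd A rfl i.obj
  have h2 := IsHomLift.fac' (SpQuotSt K G aX).p i.obj.hom (ιYo A R i)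
  change (ιYo A R i).base = _ at h2
  rw [h2]
  simp only [eqToHom_refl, Category.comp_id]

theorem ιYo_nat (R : Sieve A.base) {i j : R.arrows.category} (f : i ⟶ j) :
    (resYo A R).map f ≫ ιYo A R j = ιYo A R i :=
  K751.Test.yo_map_yoε (𝒳 := SpQuotSt K G aX) isFibGrpd A rfl f.hom

/-- the object `A` as descended from its restrictions -/
noncomputable def desYo (R : Sieve A.base) : DesB (resYo A R) where
  P := A.P
  q := A.π.left
  c i := (ιYo A R i).top
  nat f := congrArg SpQuotObj.Hom.top (ιYo_nat A R f)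
  cart i := cart_of_hom _ _ (ιYo_base A R i)

theorem glueFrom (R : Sieve A.base) (hR : R ∈ J S A.base) :
    K751.Test.GlueFrom (SpQuotSt K G aX).p A R := by
  intro y g φ hφ cφ
  let E := desYo A R
  have hmem : ∀ i : R.arrows.category, R ((SpQuotSt K G aX).p.map (ιYo A R i)) := fun i => by
    change R (ιYo A R i).base
    rw [ιYo_base]
    exact R.downward_closed i.property _
  have φ_congr : ∀ {z : (SpQuotSt K G aX).obj} {a a' : z ⟶ A} (e : a = a') (h : R ((SpQuotSt K G aX).p.map a))
      (h' : R ((SpQuotSt K G aX).p.map a')), φ a h = φ a' h' := by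
    intro z a a' e h h'
    subst e
    rfl
  let k : ∀ i : R.arrows.category, (resYo A R).obj i ⟶ y := fun i => φ (ιYo A R i) (hmem i)
  have hkb : ∀ i, (k i).base = eb (resYo A R) i ≫ i.obj.hom ≫ g := fun i => by
    have h := hφ (ιYo A R i) (hmem i)
    change (k i).base = (ιYo A R i).base ≫ g at h
    rw [h, ιYo_base, Category.assoc]
  have hknat : ∀ {i j : R.arrows.category} (f : i ⟶ j), (resYo A R).map f ≫ k j = k i := by
    intro i j f
    have h1 : R ((SpQuotSt K G aX).p.map ((resYo A R).map f ≫ ιYo A R j)) := by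
      rw [ιYo_nat]; exact hmem i
    have h2 := cφ ((resYo A R).map f) (ιYo A R j) (hmem j) h1
    exact h2.symm.trans (φ_congr (ιYo_nat A R f) h1 (hmem i))
  obtain ⟨m, hm⟩ := E.exists_hom hR (fun i => (k i).top) (fun f => congrArg SpQuotObj.Hom.top (hknat f))
  have hm' : ∀ i, (ιYo A R i).top ≫ m = (k i).top := hm
  have hwb : (yon S).map g ≫ y.b = A.b := by
    refine (SpCar.jSurj_yon hR).ext (fun i => ?_)
    have h1 := (ιYo A R i).wb
    have h2 := (k i).wb
    rw [ιYo_base, Functor.map_comp, Category.assoc] at h1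
    rw [hkb, Functor.map_comp, Functor.map_comp, Category.assoc, Category.assoc, ← h1, cancel_epi] at h2
    exact h2
  have heq : A.act.act ≫ m = (G ◁ m) ≫ y.act.act := by
    refine E.hom_extT hR G (fun i => ?_)
    change (G ◁ (ιYo A R i).top) ≫ _ = (G ◁ (ιYo A R i).top) ≫ _
    rw [← Category.assoc, ← (ιYo A R i).eqv, Category.assoc, hm', (k i).eqv, ← Category.assoc,
      ← MonoidalCategory.whiskerLeft_comp, hm']
  have hmφ : m ≫ y.φ = A.φ := by
    refine E.hom_ext hR (fun i => ?_)
    change (ιYo A R i).top ≫ _ = (ιYo A R i).top ≫ _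
    rw [← Category.assoc, hm', (k i).wφ, (ιYo A R i).wφ]
  have hw : m ≫ y.π = A.π ≫ bHom g hwb := by
    refine E.hom_ext hR (fun i => ?_)
    change (ιYo A R i).top ≫ _ = (ιYo A R i).top ≫ _
    rw [← Category.assoc, hm', (k i).cart.w, ← Category.assoc, (ιYo A R i).cart.w, Category.assoc]
    congr 1
    ext : 1
    change (yon S).map (k i).base = (yon S).map (ιYo A R i).base ≫ (yon S).map g
    rw [← Functor.map_comp, hkb, ιYo_base, Category.assoc]
  have hcart : IsPullback m A.π y.π (bHom g hwb) := by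
    refine isPullback_of_left ?_
    refine SpCar.isPullback_of_jSurj (congrArg (fun k => k.left) hw) (SpCar.jSurj_yon hR)
      (P' := fun i => ((resYo A R).obj i).P.left) (c := fun i => (ιYo A R i).top.left) (fun i => E.cart i) (fun i => ?_)
    have h1 := cart_of_hom (k i) (i.obj.hom ≫ g) (hkb i)
    rw [Functor.map_comp] at h1
    have h2 : (ιYo A R i).top.left ≫ m.left = (k i).top.left := congrArg (fun k => k.left) (hm' i)
    rw [h2]
    exact h1
  let ψ : A ⟶ y := { base := g, wb := hwb, top := m, eqv := heq, cart := hcart, wφ := hmφ }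
  have hψ : ∀ i, ιYo A R i ≫ ψ = k i := fun i =>
    SpQuotObj.hom_ext (by rw [SpQuotObj.comp_base, hkb, ιYo_base, Category.assoc]) (hm' i)
  refine ⟨ψ, ⟨rfl, fun z a ha => ?_⟩, ?_⟩
  · let o : R.arrows.category := K751.Test.mkS ((SpQuotSt K G aX).p.map a) ha
    obtain ⟨χ, hχ, eχ⟩ := K751.FG.exists_factor (p := (SpQuotSt K G aX).p) isFibGrpd (𝟙 ((SpQuotSt K G aX).p.obj z))
      (Category.id_comp ((SpQuotSt K G aX).p.map a)) (ιYo A R o) a
      (K751.Test.yoε_lift (𝒳 := SpQuotSt K G aX) isFibGrpd A rfl o.obj) inferInstance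
    have h1 : R ((SpQuotSt K G aX).p.map (χ ≫ ιYo A R o)) := by rw [eχ]; exact ha
    have h2 := cφ χ (ιYo A R o) (hmem o) h1
    rw [← φ_congr eχ h1 ha, h2]
    change a ≫ ψ = χ ≫ k o
    rw [← hψ o, ← Category.assoc, eχ]
  · rintro ψ' ⟨h1, h2⟩
    refine SpQuotObj.hom_ext h1 (E.hom_ext hR (fun i => ?_))
    have h3 := congrArg SpQuotObj.Hom.top (h2 (ιYo A R i) (hmem i))
    exact h3.trans (hm' i).symm

end Prestack

section Eff

variable (D : Stk.sieveCat R ⥤ᵇ SpQuotSt K G aX)

/-- the section of `B` over the arrow `i` -/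
noncomputable abbrev bb (i : R.arrows.category) : (yon S).obj i.obj.left ⟶ B :=
  (yon S).map (eqToHom (D.w_obj i).symm) ≫ (D.obj i).b

theorem eb_bb (i : R.arrows.category) : (yon S).map (eb D i) ≫ bb D i = (D.obj i).b := by
  rw [← Category.assoc, ← CategoryTheory.Functor.map_comp, eqToHom_trans, eqToHom_refl, CategoryTheory.Functor.map_id,
    Category.id_comp]

theorem bb_nat {i j : R.arrows.category} (f : i ⟶ j) : (yon S).map f.hom.left ≫ bb D j = bb D i := by
  have h1 := (D.map f).wb
  rw [← eb_bb D j, ← eb_bb D i, ← Category.assoc, ← Functor.map_comp, eb_nat, Functor.map_comp, Category.assoc,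
    cancel_epi] at h1
  exact h1

theorem exists_b (hR : R ∈ J S U) : ∃ b : (yon S).obj U ⟶ B, ∀ i : R.arrows.category,
    (yon S).map i.obj.hom ≫ b = bb D i := by
  refine (SpCar.jSurj_yon hR).exists_desc (bb D) ?_
  intro T i j y y' h
  have e : (yon S).preimage y' ≫ j.obj.hom = (yon S).preimage y ≫ i.obj.hom := by
    apply (yon S).map_injective
    rw [Functor.map_comp, Functor.map_comp, Functor.map_preimage, Functor.map_preimage, h]
  have h1 := bb_nat D (SpCar.obHom i ((yon S).preimage y))
  have h2 := bb_nat D (SpCar.hm i j ((yon S).preimage y) ((yon S).preimage y') e)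
  rw [← (yon S).map_preimage y, ← (yon S).map_preimage y']
  exact h1.trans h2.symm

theorem exists_desB (hR : R ∈ J S U) : ∃ (b : (yon S).obj U ⟶ B) (E : DesB D),
    (∀ i : R.arrows.category, (yon S).map i.obj.hom ≫ b = bb D i) ∧ E.P.hom = E.q ≫ b := by
  obtain ⟨b, hb⟩ := exists_b D hR
  obtain ⟨E₀⟩ := SpCar.exists_des (car D)
  refine ⟨b, ⟨Over.mk (E₀.q ≫ b), E₀.q, fun i => Over.homMk (E₀.c i) ?_, ?_, fun i => E₀.cart i⟩, hb, rfl⟩
  · change E₀.c i ≫ E₀.q ≫ b = (D.obj i).P.hom
    rw [← Category.assoc, (E₀.cart i).w, Category.assoc, hb]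
    change ((D.obj i).π.left ≫ (yon S).map (eb D i)) ≫ bb D i = _
    rw [Category.assoc, eb_bb]
    exact Over.w (D.obj i).π
  · intro i j f
    ext : 1
    exact E₀.nat f

end Eff

theorem exists_eff (hR : R ∈ J S U) (D : Stk.sieveCat R ⥤ᵇ SpQuotSt Scheme.fppfPrecoverage G aX) :
    Nonempty (K751.Test.Eff D) := by
  obtain ⟨b, E, hb, hEb⟩ := exists_desB D hR
  have hnat : ∀ {i j : R.arrows.category} (f : i ⟶ j), (G ◁ (D.map f).top) ≫ (D.obj j).act.act =
      (D.obj i).act.act ≫ (D.map f).top := fun f => ((D.map f).eqv).symm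
  obtain ⟨act, hact⟩ := E.exists_homT hR G (fun i => (D.obj i).act.act ≫ E.c i) (fun {i j} f => by
    rw [← Category.assoc, hnat, Category.assoc, E.nat])
  let a : GAction G E.P :=
    { act := act
      one_act := by
        refine E.hom_extT hR (𝟙_ _) (fun i => ?_)
        rw [MonoidalCategory.whisker_exchange_assoc, hact, ← Category.assoc, (D.obj i).act.one_act,
          MonoidalCategory.leftUnitor_naturality]
      mul_act := by
        refine E.hom_extT hR (G ⊗ G) (fun i => ?_)
        rw [MonoidalCategory.whisker_exchange_assoc, hact, ← Category.assoc, (D.obj i).act.mul_act,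
          MonoidalCategory.associator_naturality_right_assoc, Category.assoc, Category.assoc]
        congr 1
        rw [← MonoidalCategory.whiskerLeft_comp_assoc, hact, MonoidalCategory.whiskerLeft_comp_assoc, hact] }
  let π : E.P ⟶ Over.mk b := Over.homMk E.q hEb.symm
  have hcπ : ∀ i, (E.c i).left ≫ E.q = qq D i ≫ (yon S).map i.obj.hom := fun i => (E.cart i).w
  have hinv : act ≫ π = snd G E.P ≫ π := by
    refine E.hom_extT hR G (fun i => ?_)
    ext : 1
    rw [← Category.assoc, hact, whiskerLeft_snd_assoc]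
    change ((D.obj i).act.act.left ≫ (E.c i).left) ≫ E.q = (snd G (D.obj i).P).left ≫ (E.c i).left ≫ E.q
    have h1 := congrArg (fun k => k.left) (D.obj i).cart.w
    change (D.obj i).act.act.left ≫ (D.obj i).π.left = (snd G (D.obj i).P).left ≫ (D.obj i).π.left at h1
    rw [Category.assoc, hcπ, ← Category.assoc (D.obj i).act.act.left, ← Category.assoc (D.obj i).act.act.left,
      h1]
    simp only [Category.assoc]
  have hcart : IsPullback a.act (snd G E.P) π π := by
    refine isPullback_of_left ?_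
    refine SpCar.isPullback_of_jSurj (congrArg (fun k => k.left) hinv) (E.des.jSurj hR)
      (P' := fun i => (G ⊗ (D.obj i).P).left) (c := fun i => (G ◁ E.c i).left)
      (p' := fun i => (snd G (D.obj i).P).left)
      (fun i => isPullback_left (isPullback_whiskerLeft' (E.c i))) (fun i => ?_)
    have h0 : IsPullback (D.obj i).π.left (𝟙 _) ((yon S).map (eb D i)) (qq D i) :=
      IsPullback.of_vert_isIso ⟨by rw [Category.id_comp]⟩
    have h1 := ((isPullback_left (D.obj i).cart).paste_vert h0).paste_horiz (E.cart i)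
    rw [Category.comp_id, ← hcπ] at h1
    have h2 : (G ◁ E.c i).left ≫ a.act.left = (D.obj i).act.act.left ≫ (E.c i).left :=
      congrArg (fun k => k.left) (hact i)
    rw [h2]
    exact h1
  have hloc : HasSecLoc Scheme.fppfPrecoverage π.left := by
    rw [SecLoc.hasSecLoc_iff]
    let Q : Sieve U :=
      { arrows := fun T f => ∃ s : (yon S).obj T ⟶ E.P.left, s ≫ E.q = (yon S).map f
        downward_closed := by
          rintro T T' f ⟨s, hs⟩ g
          exact ⟨(yon S).map g ≫ s, by rw [Category.assoc, hs, Functor.map_comp]⟩ }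
    refine ⟨Q, ?_, fun T' f hf => hf⟩
    refine (J S).transitive hR Q (fun V f hf => ?_)
    let i : R.arrows.category := ⟨Over.mk f, hf⟩
    obtain ⟨R', hR', H⟩ := (SecLoc.hasSecLoc_iff _).1 (D.obj i).loc
    refine (J S).superset_covering ?_ ((J S).pullback_stable (eqToHom (D.w_obj i).symm : V ⟶ (D.obj i).base) hR')
    intro T g hg
    obtain ⟨s, hs⟩ := H T _ hg
    refine ⟨s ≫ (E.c i).left, ?_⟩
    rw [Category.assoc, hcπ, ← Category.assoc, ← Category.assoc, hs, ← Functor.map_comp, ← Functor.map_comp]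
    congr 1
    change ((g ≫ eqToHom _) ≫ eqToHom _) ≫ f = g ≫ f
    rw [Category.assoc g, eqToHom_trans, eqToHom_refl, Category.comp_id]
  obtain ⟨φ, hφ⟩ := E.exists_hom hR (fun i => (D.obj i).φ) (fun f => (D.map f).wφ)
  let A : SpQuotObj Scheme.fppfPrecoverage G aX :=
    { base := U
      b := b
      P := E.P
      act := a
      π := π
      cart := hcart
      loc := hloc
      φ := φ
      eqv := by
        refine E.hom_extT hR G (fun i => ?_)
        change (G ◁ E.c i) ≫ act ≫ φ = (G ◁ E.c i) ≫ (G ◁ φ) ≫ aX.act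
        rw [← Category.assoc, hact, Category.assoc, hφ, (D.obj i).eqv, ← MonoidalCategory.whiskerLeft_comp_assoc, hφ] }
  let io : ∀ i : R.arrows.category, D.obj i ⟶ A := fun i =>
    { base := eb D i ≫ i.obj.hom
      wb := by
        change (yon S).map _ ≫ b = _
        rw [Functor.map_comp, Category.assoc, hb, eb_bb]
      top := E.c i
      eqv := (hact i).symm
      cart := by
        refine isPullback_of_left ?_
        have h0 : IsPullback ((yon S).map (eb D i ≫ i.obj.hom)) ((yon S).map (eb D i)) (𝟙 _) ((yon S).map i.obj.hom) :=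
          IsPullback.of_vert_isIso ⟨by rw [← Functor.map_comp, Category.comp_id]⟩
        refine IsPullback.of_bot (h₃₁ := (yon S).map i.obj.hom) (v₂₁ := (yon S).map (eb D i)) (v₂₂ := 𝟙 _) ?_ ?_ h0
        · have h1 := E.cart i
          have e : E.q ≫ 𝟙 ((yon S).obj U) = E.q := Category.comp_id _
          change IsPullback (E.c i).left (qq D i) (E.q ≫ 𝟙 ((yon S).obj U)) ((yon S).map i.obj.hom)
          rw [e]
          exact h1
        · change (E.c i).left ≫ E.q = (D.obj i).π.left ≫ (yon S).map (eb D i ≫ i.obj.hom)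
          rw [hcπ, Category.assoc, Functor.map_comp]
      wφ := hφ i }
  refine ⟨⟨A, io, fun i => ?_, fun {i j} f => ?_, rfl⟩⟩
  · refine IsHomLift.of_fac' _ _ _ (D.w_obj i) rfl ?_
    change eb D i ≫ i.obj.hom = _
    simp
  · refine SpQuotObj.hom_ext ?_ (E.nat f)
    change (D.map f).base ≫ eb D j ≫ j.obj.hom = eb D i ≫ i.obj.hom
    rw [← Category.assoc, eb_nat, Category.assoc, SpCar.hom_w]

/-- **The category of objects of `[X/G]` (torsors as sheaves) is a stack in groupoids.** -/
theorem isStack (aX : GAction G X) : Stk.IsStack (AlgSp.J S) (SpQuotSt Scheme.fppfPrecoverage G aX) := by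
  rw [K751.Test.isStack_iff, K751.Test.isPrestack_iff]
  exact ⟨⟨isFibGrpd, fun x R hR => glueFrom x R hR⟩, fun U R hR D => exists_eff hR D⟩

end K744.SpQ
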