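import Groth.Agent.S0115
import Groth.Agent.Flat2D.LfpComp
import Groth.Agent.AlgSt.K744.TorsProp
import Groth.Agent.AlgSt.K742.Nice
import Groth.Agent.AlgSt.K737.Atlas
import Groth.Agent.AlgSt.K734.Atlas

/-!
# If `BG` is algebraic then `G` is flat and locally of finite presentation
-/

set_option autoImplicit false
set_option backward.isDefEq.respectTransparency false
set_option backward.isDefEq.respectTransparency.types false

universe w v u

open CategoryTheory CategoryTheory.Limits MonoidalCategory CartesianMonoidalCategory MonObj GrpObj AlgebraicGeometry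
open Groth.Agent.Books.BorelOrb AlgSt

namespace K744.BGConv

open K744.Quot K744.IsomFp K744.QuotFp K744.TorsProp

/-- A retract of a flat scheme is flat. -/
theorem flat_of_retract {X Y S : Scheme.{u}} (i : X ⟶ Y) (r : Y ⟶ X) (h : i ≫ r = 𝟙 X) (q : X ⟶ S)
    [Flat (r ≫ q)] : Flat q := by
  have key : ∀ x : X, (q.stalkMap (r (i x))).hom.Flat := by
    intro x
    have h1 : ((r ≫ q).stalkMap (i x)).hom.Flat := Flat.stalkMap _ _
    rw [Scheme.Hom.stalkMap_comp] at h1
    have hiso : IsIso (i ≫ r) := by rw [h]; infer_instance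
    have h2 : IsIso ((i ≫ r).stalkMap x) := inferInstance
    rw [Scheme.Hom.stalkMap_comp] at h2
    set a := q.stalkMap (r (i x))
    set b := r.stalkMap (i x)
    set c := i.stalkMap x
    let R := S.presheaf.stalk (q (r (i x)))
    let A := X.presheaf.stalk (r (i x))
    let C := Y.presheaf.stalk (i x)
    let d := inv (b ≫ c)
    have hd : b ≫ c ≫ d = 𝟙 _ := by
      rw [← Category.assoc]
      exact IsIso.hom_inv_id _
    let : Algebra R A := a.hom.toAlgebra
    let : Algebra R C := (b.hom.comp a.hom).toAlgebra
    have hC : Module.Flat R C := h1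
    have e1 : ∀ (s : R) (t : A), b.hom (s • t) = s • b.hom t := fun s t => by
      change b.hom (a.hom s * t) = b.hom (a.hom s) * b.hom t
      rw [map_mul]
    have e2 : ∀ (s : R) (t : C), (c ≫ d).hom (s • t) = s • (c ≫ d).hom t := fun s t => by
      change (c ≫ d).hom (b.hom (a.hom s) * t) = a.hom s * (c ≫ d).hom t
      rw [map_mul]
      congr 1
      exact congrArg (fun f => f.hom (a.hom s)) hd
    let i' : A →ₗ[R] C :=
      { toFun := b.hom
        map_add' := b.hom.map_add
        map_smul' := e1 }
    let r' : C →ₗ[R] A :=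
      { toFun := (c ≫ d).hom
        map_add' := (c ≫ d).hom.map_add
        map_smul' := e2 }
    have hr : r'.comp i' = LinearMap.id := by
      ext t
      exact congrArg (fun f => f.hom t) hd
    exact Module.Flat.of_retract i' r' hr
  apply Flat.of_stalkMap
  intro x
  have hx : r (i x) = x := by
    have := congrArg (fun f : X ⟶ X => f x) h
    simpa using this
  have := key x
  rw [hx] at this
  exact this

variable {S : Scheme.{u}}

theorem left_toUnit' (X : Over S) : (toUnit X).left = X.hom :=
  (Category.comp_id _).symm.trans (Over.w (toUnit X))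

/-- The core statement: a torsor whose total space is flat, locally of finite presentation and surjective over `S`. -/
theorem flat_lfp_of_torsor {G : Over S} [GrpObj G] {X : Over S} {aX : AlgGrp.Action G X}
    (A : QuotObj Scheme.fppfPrecoverage G aX) (h1 : Flat A.P.hom) (h2 : LocallyOfFinitePresentation A.P.hom)
    (h3 : Surjective A.P.hom) : Flat G.hom ∧ LocallyOfFinitePresentation G.hom := by
  obtain ⟨T', c, hc1, hc2, hc3, s, hs⟩ := exists_cover A
  let B : Over S := Over.mk (c ≫ A.base.hom)
  let b : B ⟶ A.base := Over.homMk c rfl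
  let σ : B ⟶ A.P := Over.homMk s (by
    change s ≫ A.P.hom = c ≫ A.base.hom
    rw [← hs, Category.assoc, Over.w A.π])
  have hσ : σ ≫ A.π = b := by
    apply Over.OverMorphism.ext
    exact hs
  -- `G × B = P ×_base B`
  have sq1 : IsPullback (G ◁ σ) (snd G B) (snd G A.P) σ := by
    refine ⟨⟨by simp⟩, ⟨PullbackCone.IsLimit.mk _ (fun t => lift (t.fst ≫ fst G A.P) t.snd) ?_ ?_ ?_⟩⟩
    · intro t
      apply CartesianMonoidalCategory.hom_ext
      · simp
      · simp [t.condition]
    · intro t
      simp
    · intro t m h1 h2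
      apply CartesianMonoidalCategory.hom_ext
      · simp [← h1]
      · simpa using h2
  have sq2 : IsPullback ((G ◁ σ) ≫ A.act.act) (snd G B) A.π (σ ≫ A.π) :=
    sq1.paste_horiz A.cart
  rw [hσ] at sq2
  have sq3 := isPullback_left sq2
  have k1 : Surjective ((G ◁ σ) ≫ A.act.act).left := MorphismProperty.of_isPullback (P := @Surjective) sq3.flip hc1
  have k2 : Flat ((G ◁ σ) ≫ A.act.act).left := MorphismProperty.of_isPullback (P := @Flat) sq3.flip hc2
  have k3 : LocallyOfFinitePresentation ((G ◁ σ) ≫ A.act.act).left :=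
    MorphismProperty.of_isPullback (P := @LocallyOfFinitePresentation) sq3.flip hc3
  have hw : ((G ◁ σ) ≫ A.act.act).left ≫ A.P.hom = (G ⊗ B).hom := Over.w _
  have m1 : Surjective (G ⊗ B).hom := by rw [← hw]; infer_instance
  have m2 : Flat (G ⊗ B).hom := by rw [← hw]; infer_instance
  have m3 : LocallyOfFinitePresentation (G ⊗ B).hom := by rw [← hw]; infer_instance
  have hw' : (snd G B).left ≫ B.hom = (G ⊗ B).hom := Over.w _
  have hw'' : (fst G B).left ≫ G.hom = (G ⊗ B).hom := Over.w _
  -- `B` is a retract of `G × B`
  let i : B ⟶ G ⊗ B := lift (toUnit B ≫ η[G]) (𝟙 B)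
  have hi : i ≫ snd G B = 𝟙 B := lift_snd _ _
  have hi' : i.left ≫ (snd G B).left = 𝟙 B.left := by
    rw [← Over.comp_left, hi]; rfl
  have n1 : Surjective B.hom := by
    have : Surjective ((snd G B).left ≫ B.hom) := by rw [hw']; exact m1
    exact Surjective.of_comp (snd G B).left B.hom
  have n2 : Flat B.hom := by
    have : Flat ((snd G B).left ≫ B.hom) := by rw [hw']; exact m2
    exact flat_of_retract i.left (snd G B).left hi' B.hom
  have n3 : LocallyOfFinitePresentation B.hom := by
    have a1 : LocallyOfFinitePresentation ((snd G B).left ≫ B.hom) := by rw [hw']; exact m3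
    have a2 : LocallyOfFiniteType (snd G B).left := locallyOfFiniteType_of_comp (snd G B).left B.hom
    have a3 : LocallyOfFinitePresentation (i.left ≫ (snd G B).left) := by rw [hi']; infer_instance
    have a4 : LocallyOfFinitePresentation i.left :=
      Groth.Agent.Flat2D.LfpComp.lfp_of_comp i.left (snd G B).left
    have a5 : i.left ≫ (snd G B).left ≫ B.hom = B.hom := by rw [← Category.assoc, hi', Category.id_comp]
    rw [← a5]
    infer_instance
  have sqGB := isPullback_left (isPullback_fst_snd G B)
  constructor
  · have q1 : Surjective (fst G B).left := MorphismProperty.of_isPullback (P := @Surjective) sqGB.flip (by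
      rw [left_toUnit']; exact n1)
    have q2 : Flat (fst G B).left := MorphismProperty.of_isPullback (P := @Flat) sqGB.flip (by
      rw [left_toUnit']; exact n2)
    have : Flat ((fst G B).left ≫ G.hom) := by rw [hw'']; exact m2
    exact Groth.Agent.S0115.flat_of_comp (fst G B).left G.hom
  · have a1 : LocallyOfFinitePresentation ((snd G B).left ≫ B.hom) := by rw [hw']; exact m3
    have a2 : LocallyOfFinitePresentation (snd G B).left :=
      Groth.Agent.Flat2D.LfpComp.lfp_of_comp (snd G B).left B.hom
    have := MorphismProperty.of_isPullback_of_descendsAlong (P := @LocallyOfFinitePresentation)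
      (Q := @Surjective ⊓ @Flat ⊓ @LocallyOfFinitePresentation) sqGB.flip
      ⟨⟨by rw [left_toUnit']; exact n1, by rw [left_toUnit']; exact n2⟩, by rw [left_toUnit']; exact n3⟩ a2
    rwa [left_toUnit'] at this

/-- The map of points of a morphism of schemes. -/
theorem surjective_of_overMap {U V : Over S} (h : U ⟶ V) {P : MorphismProperty (AlgSp.Sp S)}
    (hP : RepByAlgSpWith P (AlgSt.overMap h))
    (hs : RepByAlgSpWith AlgSp.IsSurjectiveMor (AlgSt.overMap h)) : Surjective h.left := by
  have h1 := (K737.Atlas.surjective_iff (K735.Fp.isFibGrpd_overCat V) hP).1 hs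
  refine ⟨fun t => ?_⟩
  obtain ⟨s, hs⟩ := h1 (AlgSt.Points.ofChart (BasedFunctor.id (FibCat.overCat V)) t)
  refine ⟨s, (K735.PtsSp.ofChart_id_bijective V).1 ?_⟩
  rw [← hs]
  exact (K735.PtsSp.ofChart_overMap h (BasedFunctor.id _) s).symm

/-- **If `BG` is an algebraic stack then `G` is flat and locally of finite presentation.** -/
theorem flat_lfp_of_isAlgStack {G : Over S} [GrpObj G]
    (h : IsAlgStack Scheme.fppfPrecoverage (BG Scheme.fppfPrecoverage G)) :
    Flat G.hom ∧ LocallyOfFinitePresentation G.hom := by
  obtain ⟨U, u, hu1, hu2⟩ := h.atlas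
  obtain ⟨e, he, -, he2⟩ := exists_isEquivOver_overCat u
  have s1 : RepByAlgSpWith (AlgSp.LocP @Smooth) (AlgSt.overMap (tors u).φ) := by
    have := (K734.Rep.repByAlgSpWith_precomp_iff he _).2
      (K734.Rep.repByAlgSpWith_fpSnd _ u (chart Scheme.fppfPrecoverage G (trivAction G)) hu1)
    rw [he2] at this
    exact this
  have s2 : RepByAlgSpWith AlgSp.IsSurjectiveMor (AlgSt.overMap (tors u).φ) := by
    have := (K734.Rep.repByAlgSpWith_precomp_iff he _).2
      (K734.Rep.repByAlgSpWith_fpSnd _ u (chart Scheme.fppfPrecoverage G (trivAction G)) hu2)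
    rw [he2] at this
    exact this
  have hφ : (tors u).φ = toUnit _ := toUnit_unique _ _
  rw [hφ] at s1 s2
  have t1 : Smooth (toUnit (tors u).P).left := (K742.NiceP.overMap_iff K742.nice_smooth _).1 s1
  have t2 : Surjective (toUnit (tors u).P).left := surjective_of_overMap _ s1 s2
  rw [left_toUnit'] at t1 t2
  exact flat_lfp_of_torsor (tors u) inferInstance inferInstance t2

end K744.BGConv
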