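import Groth.Prelude.Def_FibCat2

/-!
# Criteria for equivalences over the base
-/

set_option autoImplicit false
set_option backward.isDefEq.respectTransparency false
set_option backward.isDefEq.respectTransparency.types false

universe v₄ u₄ v₃ u₃ v₂ u₂ v u

open CategoryTheory

namespace K744.Fib

variable {C : Type u} [Category.{v} C]
variable {𝒳 : BasedCategory.{v₂, u₂} C} {𝒴 : BasedCategory.{v₃, u₃} C} {𝒵 : BasedCategory.{v₄, u₄} C}

/-- A functor over the base whose underlying functor is fully faithful and which hits every object up to an isomorphism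
over an identity is an equivalence over the base. -/
theorem isEquivOver_of (F : 𝒳 ⥤ᵇ 𝒴) (hfull : F.toFunctor.Full) (hfaith : F.toFunctor.Faithful)
    (h : ∀ y : 𝒴.obj, ∃ (x : 𝒳.obj) (e : F.obj x ≅ y), 𝒴.p.IsHomLift (𝟙 (𝒴.p.obj y)) e.hom) :
    FibCat.IsEquivOver F := by
  choose x e he using h
  have hobj : ∀ y, 𝒳.p.obj (x y) = 𝒴.p.obj y := fun y =>
    (F.w_obj (x y)).symm.trans (IsHomLift.domain_eq 𝒴.p (𝟙 (𝒴.p.obj y)) (e y).hom)
  let G : 𝒴.obj ⥤ 𝒳.obj :=
    { obj := x
      map := fun {y y'} f => F.toFunctor.preimage ((e y).hom ≫ f ≫ (e y').inv)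
      map_id := fun y => F.toFunctor.map_injective (by simp)
      map_comp := fun f g => F.toFunctor.map_injective (by simp) }
  have hG : ∀ {y y' : 𝒴.obj} (f : y ⟶ y'), F.toFunctor.map (G.map f) = (e y).hom ≫ f ≫ (e y').inv :=
    fun f => F.toFunctor.map_preimage _
  have hlift : ∀ {y y' : 𝒴.obj} (f : y ⟶ y'), 𝒳.p.IsHomLift (𝒴.p.map f) (G.map f) := by
    intro y y' f
    rw [← BasedFunctor.isHomLift_iff F]
    change 𝒴.p.IsHomLift (𝒴.p.map f) (F.toFunctor.map (G.map f))
    rw [hG]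
    have := he y
    have := he y'
    infer_instance
  let G' : 𝒴 ⥤ᵇ 𝒳 :=
    { toFunctor := G
      w := Functor.ext hobj (fun y y' f => by
        have := hlift f
        exact IsHomLift.fac' 𝒳.p (𝒴.p.map f) (G.map f)) }
  refine ⟨G', ⟨BasedNatIso.mkNatIso (NatIso.ofComponents (fun a => F.toFunctor.preimageIso (e (F.obj a)))
    (fun {a b} f => F.toFunctor.map_injective ?_)) (fun a => ?_)⟩, ⟨BasedNatIso.mkNatIso
      (NatIso.ofComponents (fun y => e y) (fun {y y'} f => ?_)) (fun y => he y)⟩⟩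
  · change F.toFunctor.map (G.map (F.toFunctor.map f) ≫ _) = F.toFunctor.map (_ ≫ f)
    rw [Functor.map_comp, Functor.map_comp, hG]
    simp
  · change 𝒳.p.IsHomLift (𝟙 (𝒳.p.obj a)) (F.toFunctor.preimage (e (F.obj a)).hom)
    rw [← BasedFunctor.isHomLift_iff F]
    change 𝒴.p.IsHomLift (𝟙 (𝒳.p.obj a)) (F.toFunctor.map (F.toFunctor.preimage (e (F.obj a)).hom))
    rw [F.toFunctor.map_preimage]
    have h1 := he (F.obj a)
    have h2 : 𝒴.p.obj (F.obj a) = 𝒳.p.obj a := F.w_obj a
    rwa [h2] at h1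
  · change F.toFunctor.map (G.map f) ≫ (e y').hom = (e y).hom ≫ f
    rw [hG]
    simp

end K744.Fib
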