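import Groth.Agent.AlgSt.K735.Setoid

/-!
# Relative inertia and faithfulness (helper744)

`K744.InertiaFaithful.isEquivOver_inertiaToBase_iff` : for `F : 𝒳 ⟶ 𝒴` between categories fibred in groupoids,
`I_{𝒳/𝒴} ⟶ 𝒳` is an equivalence iff `F` is faithful.
-/

set_option autoImplicit false
set_option backward.isDefEq.respectTransparency false
set_option backward.isDefEq.respectTransparency.types false

universe u₄ v₄ u₃ v₃ u₂ v₂ u v

open CategoryTheory CategoryTheory.Limits K735.Fib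

namespace K744.InertiaFaithful

variable {C : Type u} [Category.{v} C] {𝒳 : BasedCategory.{v₂, u₂} C} {𝒴 : BasedCategory.{v₃, u₃} C}

theorem isEquivOver_inertiaToBase_iff (h𝒳 : FibCat.IsFibGrpd 𝒳.p) (h𝒴 : FibCat.IsFibGrpd 𝒴.p) (F : 𝒳 ⥤ᵇ 𝒴) :
    FibCat.IsEquivOver (FibCat.inertiaToBase F) ↔ F.toFunctor.Faithful := by
  constructor
  · intro h
    refine ⟨fun {a b} φ ψ (e : F.map φ = F.map ψ) => ?_⟩
    have hp : 𝒳.p.map φ = 𝒳.p.map ψ := by
      have h1 := map_map F φ
      have h2 := map_map F ψ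
      rw [e, h2] at h1
      rw [cancel_epi, cancel_mono] at h1
      exact h1.symm
    obtain ⟨χ, hχ1, hχ2⟩ := exists_hom h𝒳 φ ψ (𝟙 _) (by rw [Category.id_comp, hp])
    have hv : Vert 𝒳.p χ := vert_of_map_eq rfl (by rw [hχ1]; rfl)
    have := hv.isIso h𝒳
    have hF : F.map χ = 𝟙 _ := by
      apply hom_ext' h𝒴 (F.map φ)
      · rw [map_map, hχ1]; simp
      · rw [← F.map_comp, hχ2, Category.id_comp, e]
    let α : a ≅ a := asIso χ
    let x₁ : (FibCat.inertia F).obj := ⟨a, α, hF⟩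
    let x₀ : (FibCat.inertia F).obj := ⟨a, Iso.refl a, F.map_id a⟩
    obtain ⟨θ, hθ⟩ := IsEquivOver.full h (a := x₀) (b := x₁) (𝟙 a)
    have h1 := θ.comm
    change θ.hom = 𝟙 a at hθ
    rw [hθ] at h1
    change 𝟙 a ≫ 𝟙 a = 𝟙 a ≫ χ at h1
    rw [Category.id_comp, Category.id_comp] at h1
    rw [← hχ2, ← h1, Category.id_comp]
  · intro h
    have h2 : ∀ x : (FibCat.inertia F).obj, x.aut.hom = 𝟙 _ := fun x =>
      F.toFunctor.map_injective (x.map_aut.trans (F.map_id _).symm)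
    refine isEquivOver_of ?_ ?_ ?_
    · intro x y φ ψ e
      exact FibCat.InertiaObj.hom_ext e
    · intro x y φ
      refine ⟨⟨φ, ?_⟩, rfl⟩
      rw [h2 x, h2 y, Category.id_comp]
      exact (Category.comp_id _).symm
    · intro y
      exact ⟨⟨y, Iso.refl y, F.map_id y⟩, Iso.refl y, vert_id y⟩

end K744.InertiaFaithful
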