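import Groth.Agent.AlgSt.K735.Pts
import Groth.Agent.AlgSt.K734.FibFp

/-!
# Universally injective functors (helper744)

* `K744.Inj.injective_fpFst_fpFst` : base change.
* `K744.Inj.surjective_diag_comp` : composition, in terms of diagonals.
-/

set_option autoImplicit false
set_option backward.isDefEq.respectTransparency false
set_option backward.isDefEq.respectTransparency.types false

universe v₉ u₉ v₈ u₈ v₇ u₇ v₆ u₆ v₅ u₅ v₄ u₄ v₃ u₃ v₂ u₂ v u

open CategoryTheory CategoryTheory.Limits AlgebraicGeometry Opposite K735.Fib K735.Fp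

namespace K744.Inj

open AlgSt

variable {S : Scheme.{u}}
variable {𝒳 : BasedCategory.{v₂, u₂} (Over S)} {𝒴 : BasedCategory.{v₃, u₃} (Over S)}
  {𝒵 : BasedCategory.{v₄, u₄} (Over S)} {𝒲 : BasedCategory.{v₅, u₅} (Over S)}

theorem map_id_comp {C : Type u₆} [Category.{v₆} C] {D : Type u₇} [Category.{v₇} D] (F : C ⥤ D) {x y : C}
    {p q : F.obj x ⟶ F.obj y} (h : p = q) : F.map (𝟙 x) ≫ p = q ≫ F.map (𝟙 y) := by
  rw [h, F.map_id, F.map_id, Category.id_comp, Category.comp_id]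

theorem injective_fpFst_fpFst (z : 𝒲 ⥤ᵇ 𝒵) (g : 𝒵 ⥤ᵇ 𝒴) (f : 𝒳 ⥤ᵇ 𝒴)
    (h : Function.Injective (Points.map (FibCat.fpFst (BasedFunctor.comp z g) f))) :
    Function.Injective (Points.map (FibCat.fpFst z (FibCat.fpFst g f))) := by
  have hb := K735.Pts.map_bijective_of_isEquivOver (K734.Fib.isEquivOver_fpPaste z g f)
  intro a b hab
  obtain ⟨a', rfl⟩ := hb.2 a
  obtain ⟨b', rfl⟩ := hb.2 b
  rw [← K735.Pts.map_comp, ← K735.Pts.map_comp] at hab
  exact congrArg _ (h hab)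

theorem surjective_diag_comp (h𝒳 : FibCat.IsFibGrpd 𝒳.p) (h𝒴 : FibCat.IsFibGrpd 𝒴.p) (h𝒵 : FibCat.IsFibGrpd 𝒵.p)
    (f : 𝒳 ⥤ᵇ 𝒴) (g : 𝒴 ⥤ᵇ 𝒵)
    (hf : Function.Surjective (Points.map (FibCat.diag f)))
    (hg : Function.Surjective (Points.map (FibCat.diag g))) :
    Function.Surjective (Points.map (FibCat.diag (BasedFunctor.comp f g))) := by
  intro w
  let k : FibCat.fp (BasedFunctor.comp f g) (BasedFunctor.comp f g) ⥤ᵇ FibCat.fp g g :=
    FibCat.fpLift (BasedFunctor.comp (FibCat.fpFst _ _) f) (BasedFunctor.comp (FibCat.fpSnd _ _) f)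
      (FibCat.fpIso (BasedFunctor.comp f g) (BasedFunctor.comp f g))
  let m : FibCat.fp f f ⥤ᵇ FibCat.fp (BasedFunctor.comp f g) (BasedFunctor.comp f g) :=
    FibCat.fpLift (FibCat.fpFst f f) (FibCat.fpSnd f f) (K734.Fib.wr (FibCat.fpIso f f) g)
  obtain ⟨y, hy⟩ := hg (Points.map k w)
  obtain ⟨v, hv1, -⟩ := K735.Pts.exists_fp h𝒴 (isFibGrpd_fp h𝒳 h𝒳 h𝒵 _ _) (isFibGrpd_fp h𝒴 h𝒴 h𝒵 _ _) k
    (FibCat.diag g) w y hy.symm
  obtain ⟨v, rfl⟩ := Points.mk_surjective v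
  -- the underlying object
  let o := v.obj.obj.fst
  let y₀ := v.obj.obj.snd
  let i : k.obj o ≅ (FibCat.diag g).obj y₀ := v.obj.obj.iso
  have hi : Vert (FibCat.fp g g).p i.hom := fp_vert v.obj
  let a : f.obj o.obj.fst ≅ y₀ := (FibCat.fpFst g g).mapIso i
  let b : f.obj o.obj.snd ≅ y₀ := (FibCat.fpSnd g g).mapIso i
  have ha : Vert 𝒴.p a.hom := hi.map (FibCat.fpFst g g)
  have hb : Vert 𝒴.p b.hom := hi.map (FibCat.fpSnd g g)
  let δ : f.obj o.obj.fst ≅ f.obj o.obj.snd := a ≪≫ b.symm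
  have hδ : Vert 𝒴.p δ.hom := ha.comp (Vert.iso_inv hb)
  let d : FPt (FibCat.fp f f) :=
    { K := v.K, str := v.str, obj := mkFp f f o.obj.fst o.obj.snd δ hδ, lies := v.lies }
  have hw : g.map a.hom ≫ 𝟙 _ = o.obj.iso.hom ≫ g.map b.hom := fp_w i.hom
  have hgδ : g.map δ.hom = o.obj.iso.hom := by
    have h1 : g.map δ.hom = g.map a.hom ≫ g.map b.inv := by
      rw [← g.map_comp]; rfl
    rw [h1]
    have h2 : g.map a.hom = o.obj.iso.hom ≫ g.map b.hom := by rw [← hw, Category.comp_id]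
    rw [h2, Category.assoc, ← g.map_comp, Iso.hom_inv_id, g.map_id]
    exact Category.comp_id _
  obtain ⟨x, hx⟩ := hf (Points.mk d)
  obtain ⟨x, rfl⟩ := Points.mk_surjective x
  refine ⟨Points.mk x, ?_⟩
  rw [← hv1]
  have e1 : Points.map m (Points.mk d) = Points.map (FibCat.fpFst k (FibCat.diag g)) (Points.mk v) := by
    refine K735.Pts.mk_eq_of_hom (p := d.map m) (q := v.map (FibCat.fpFst k (FibCat.diag g)))
      (homFp (𝟙 o.obj.fst) (𝟙 o.obj.snd) ?_)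
    exact map_id_comp (BasedFunctor.comp f g).toFunctor hgδ.symm
  rw [← e1, ← hx, ← K735.Pts.map_comp]
  refine K735.Pts.mk_eq_of_hom (p := x.map (FibCat.diag (BasedFunctor.comp f g)))
    (q := x.map (BasedFunctor.comp (FibCat.diag f) m)) (homFp (𝟙 x.obj) (𝟙 x.obj) ?_)
  exact map_id_comp (BasedFunctor.comp f g).toFunctor (g.map_id _)

end K744.Inj
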