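import Groth.Agent.AlgSt.K744.Inj

/-!
# Universally injective functors, tested on spectra of fields (helper744)

* `K744.InjTest.mem_range_diag` : if `Spec K ×_𝒴 𝒳 ⟶ Spec K` is injective on points then every point of
  `𝒳 ×_𝒴 𝒳` lying over the given point of `𝒴` comes from the diagonal.
* `K744.InjTest.exists_lift` : field valued points lift along surjective representable morphisms.
-/

set_option autoImplicit false
set_option backward.isDefEq.respectTransparency false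
set_option backward.isDefEq.respectTransparency.types false

universe v₉ u₉ v₈ u₈ v₇ u₇ v₆ u₆ v₅ u₅ v₄ u₄ v₃ u₃ v₂ u₂ v u

open CategoryTheory CategoryTheory.Limits AlgebraicGeometry Opposite K735.Fib K735.Fp

namespace K744.InjTest

open AlgSt

variable {S : Scheme.{u}}
variable {𝒳 : BasedCategory.{v₂, u₂} (Over S)} {𝒴 : BasedCategory.{v₃, u₃} (Over S)}
  {𝒵 : BasedCategory.{v₄, u₄} (Over S)} {𝒲 : BasedCategory.{v₅, u₅} (Over S)}

theorem injective_of_paste (z : 𝒲 ⥤ᵇ 𝒵) (g : 𝒵 ⥤ᵇ 𝒴) (f : 𝒳 ⥤ᵇ 𝒴)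
    (h : Function.Injective (Points.map (FibCat.fpFst z (FibCat.fpFst g f)))) :
    Function.Injective (Points.map (FibCat.fpFst (BasedFunctor.comp z g) f)) := by
  have hb := K735.Pts.map_bijective_of_isEquivOver (K734.Fib.isEquivOver_fpPaste z g f)
  intro a b hab
  apply hb.1
  apply h
  rw [← K735.Pts.map_comp, ← K735.Pts.map_comp]
  exact hab

theorem injective_of_id (g : 𝒳 ⥤ᵇ 𝒴)
    (h : Function.Injective (Points.map (FibCat.fpFst (BasedFunctor.id 𝒴) g))) :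
    Function.Injective (Points.map g) := by
  have hb := K735.Pts.map_bijective_of_isEquivOver
    (K734.Fib.isEquivOver_fpSnd (BasedFunctor.id 𝒴) g (K734.Fib.isEquivOver_refl _))
  have hc : ∀ p, Points.map (FibCat.fpFst (BasedFunctor.id 𝒴) g) p =
      Points.map g (Points.map (FibCat.fpSnd (BasedFunctor.id 𝒴) g) p) := by
    intro p
    rw [← K735.Pts.map_comp]
    exact K735.Pts.map_congr (FibCat.fpIso (BasedFunctor.id 𝒴) g) p
  intro a b hab
  obtain ⟨a', rfl⟩ := hb.2 a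
  obtain ⟨b', rfl⟩ := hb.2 b
  rw [← hc, ← hc] at hab
  exact congrArg _ (h hab)

theorem mem_range_diag (h𝒳 : FibCat.IsFibGrpd 𝒳.p) (h𝒴 : FibCat.IsFibGrpd 𝒴.p) (f : 𝒳 ⥤ᵇ 𝒴)
    (d : FPt (FibCat.fp f f)) (z : FibCat.overCat (Over.mk d.str : Over S) ⥤ᵇ 𝒴)
    (e : z.obj (idObj (Over.mk d.str : Over S)) ⟶ f.obj d.obj.obj.fst) (he : Vert 𝒴.p e)
    (h : Function.Injective (Points.map (FibCat.fpFst z f))) :
    Points.mk d ∈ Set.range (Points.map (FibCat.diag f)) := by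
  have hie : IsIso e := he.isIso h𝒴
  have hfp : FibCat.IsFibGrpd (FibCat.fp z f).p := isFibGrpd_fp (isFibGrpd_overCat _) h𝒳 h𝒴 z f
  have hd : Vert 𝒴.p d.obj.obj.iso.hom := fp_vert d.obj
  let Z : Over S := Over.mk d.str
  let p₁ : FPt (FibCat.fp z f) :=
    { K := d.K, str := d.str, obj := mkFp z f (idObj Z) d.obj.obj.fst (asIso e) he, lies := rfl }
  let p₂ : FPt (FibCat.fp z f) :=
    { K := d.K, str := d.str, obj := mkFp z f (idObj Z) d.obj.obj.snd (asIso e ≪≫ d.obj.obj.iso) (he.comp hd),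
      lies := rfl }
  have hp : Points.mk p₁ = Points.mk p₂ := h rfl
  obtain ⟨r, a, b, -⟩ := (K735.Pts.mk_eq_mk_iff hfp).1 hp
  have ha := fp_w a
  have hb := fp_w b
  have hab : a.hom.fst = b.hom.fst := by
    have h1 : a.hom.fst.left ≫ 𝟙 Z = r.obj.obj.fst.hom := Over.w a.hom.fst
    have h2 : b.hom.fst.left ≫ 𝟙 Z = r.obj.obj.fst.hom := Over.w b.hom.fst
    apply Over.OverMorphism.ext
    rw [← Category.comp_id a.hom.fst.left, ← Category.comp_id b.hom.fst.left]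
    exact h1.trans h2.symm
  let x : FPt 𝒳 := ⟨r.K, r.str, r.obj.obj.snd, (fp_snd_eq r.obj).trans r.lies⟩
  refine ⟨Points.mk x, ?_⟩
  refine K735.Pts.mk_eq_of_hom (p := x.map (FibCat.diag f)) (q := d) (homFp a.hom.snd b.hom.snd ?_)
  have ha' : z.map a.hom.fst ≫ e = r.obj.obj.iso.hom ≫ f.map a.hom.snd := ha
  have hb' : z.map b.hom.fst ≫ e ≫ d.obj.obj.iso.hom = r.obj.obj.iso.hom ≫ f.map b.hom.snd := hb
  rw [← hab, ← Category.assoc, ha', Category.assoc, cancel_epi] at hb'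
  change f.map a.hom.snd ≫ d.obj.obj.iso.hom = 𝟙 _ ≫ f.map b.hom.snd
  rw [hb', Category.id_comp]

/-- Field-valued points lift along surjective morphisms representable by algebraic spaces. -/
theorem exists_lift (h𝒴 : FibCat.IsFibGrpd 𝒴.p) (w : 𝒲 ⥤ᵇ 𝒴) (hw : RepByAlgSpWith AlgSp.IsSurjectiveMor w)
    (y : FPt 𝒴) :
    ∃ (s : FPt 𝒲) (_ : w.obj s.obj ⟶ y.obj), True := by
  obtain ⟨F, e, -, hF⟩ := hw _ (yonF h𝒴 y.obj y.lies)
  have hsurj : Function.Surjective (AlgSp.Points.map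
    (AlgSt.spMapOfOver (BasedFunctor.comp e (FibCat.fpFst (yonF h𝒴 y.obj y.lies) w)))) := hF
  obtain ⟨q, -⟩ := hsurj (Quot.mk _ ⟨y.K, y.str, ⟨𝟙 _⟩⟩)
  obtain ⟨q, rfl⟩ := Quot.exists_rep q
  let E := e.obj ⟨q.pt, q.val⟩
  have hE : (FibCat.fp (yonF h𝒴 y.obj y.lies) w).p.obj E = q.pt := e.w_obj _
  refine ⟨⟨q.K, q.str, E.obj.snd, (fp_snd_eq E).trans hE⟩, ?_, trivial⟩
  exact E.obj.iso.inv ≫ (yonF h𝒴 y.obj y.lies).map (toId E.obj.fst) ≫ (yonFIso h𝒴 y.obj y.lies).hom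

end K744.InjTest

namespace K744.InjTest

open AlgSt

variable {S : Scheme.{u}}
variable {𝒳 : BasedCategory.{v₂, u₂} (Over S)} {𝒴 : BasedCategory.{v₃, u₃} (Over S)}
  {𝒵 : BasedCategory.{v₄, u₄} (Over S)} {𝒲 : BasedCategory.{v₅, u₅} (Over S)}

/-- The diagonal is surjective on points if all base changes to spectra of fields are injective on points. -/
theorem surjective_diag_of_fields (h𝒳 : FibCat.IsFibGrpd 𝒳.p) (h𝒴 : FibCat.IsFibGrpd 𝒴.p) (f : 𝒳 ⥤ᵇ 𝒴)
    (h : ∀ (K : Type u) [Field K] (str : Spec (CommRingCat.of K) ⟶ S)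
      (z : FibCat.overCat (Over.mk str : Over S) ⥤ᵇ 𝒴), Function.Injective (Points.map (FibCat.fpFst z f))) :
    Function.Surjective (Points.map (FibCat.diag f)) := by
  intro p
  obtain ⟨d, rfl⟩ := Points.mk_surjective p
  have hy : 𝒴.p.obj (f.obj d.obj.obj.fst) = Over.mk d.str := (f.w_obj _).trans d.lies
  exact mem_range_diag h𝒳 h𝒴 f d (yonF h𝒴 _ hy) (yonFIso h𝒴 _ hy).hom (vert_yonFIso h𝒴 _ hy) (h d.K d.str _)

/-- The diagonal is surjective on points if all base changes to spectra of fields which factor through a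
surjective representable morphism `w` are injective on points. -/
theorem surjective_diag_of_cover (h𝒳 : FibCat.IsFibGrpd 𝒳.p) (h𝒴 : FibCat.IsFibGrpd 𝒴.p)
    (h𝒲 : FibCat.IsFibGrpd 𝒲.p) (f : 𝒳 ⥤ᵇ 𝒴) (w : 𝒲 ⥤ᵇ 𝒴) (hw : RepByAlgSpWith AlgSp.IsSurjectiveMor w)
    (h : ∀ (K : Type u) [Field K] (str : Spec (CommRingCat.of K) ⟶ S)
      (z : FibCat.overCat (Over.mk str : Over S) ⥤ᵇ 𝒲),
      Function.Injective (Points.map (FibCat.fpFst z (FibCat.fpFst w f)))) :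
    Function.Surjective (Points.map (FibCat.diag f)) := by
  intro p
  obtain ⟨d, rfl⟩ := Points.mk_surjective p
  let y : FPt 𝒴 := (d.map (FibCat.fpFst f f)).map f
  obtain ⟨s, a, -⟩ := exists_lift h𝒴 w hw y
  have hff := isFibGrpd_fp h𝒳 h𝒳 h𝒴 f f
  let g : (Over.mk s.str : Over S) ⟶ Over.mk d.str := K735.Pts.baseHom (p := s.map w) (q := y) a
  obtain ⟨d', hd', φ, hφ⟩ := K735.Pts.exists_restrict hff d s.str g
  let D : FPt (FibCat.fp f f) := ⟨s.K, s.str, d', hd'⟩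
  have hD : Points.mk D = Points.mk d := K735.Pts.mk_eq_of_hom (p := D) (q := d) φ
  rw [← hD]
  have hφ' : 𝒳.p.map φ.hom.fst = eqToHom hd' ≫ g ≫ eqToHom d.lies.symm := hφ
  have ha : 𝒴.p.map a = eqToHom ((w.w_obj s.obj).trans s.lies) ≫ g ≫ eqToHom y.lies.symm := by
    simp [g, K735.Pts.baseHom]
  obtain ⟨χ, hχ1, -⟩ := exists_hom h𝒴 (f.map φ.hom.fst) a
    (eqToHom (((w.w_obj s.obj).trans s.lies).trans (((f.w_obj d'.obj.fst).trans hd').symm))) (by
      rw [map_map, hφ', ha]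
      simp)
  have hχ : Vert 𝒴.p χ := vert_of_map_eq _ hχ1
  refine mem_range_diag h𝒳 h𝒴 f D (BasedFunctor.comp (yonF h𝒲 s.obj s.lies) w)
    (w.map (yonFIso h𝒲 s.obj s.lies).hom ≫ χ) (((vert_yonFIso h𝒲 s.obj s.lies).map w).comp hχ) ?_
  exact injective_of_paste _ w f (h s.K s.str _)

end K744.InjTest
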