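import Groth.Prelude.Def_AlgSt3
import Groth.Agent.AlgSt.K744.Fib

/-!
# Fibre products of two maps from slices: represented by an object representing isomorphisms
-/

set_option autoImplicit false
set_option backward.isDefEq.respectTransparency false
set_option backward.isDefEq.respectTransparency.types false

universe w v₄ u₄ v₃ u₃ v₂ u₂ v u

open CategoryTheory CategoryTheory.Limits

namespace K744.IsomFp

variable {C : Type u} [Category.{v} C]
variable {𝒴 : BasedCategory.{v₃, u₃} C}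

theorem isStrCart {𝒳 : Type u₂} [Category.{v₂} 𝒳] {p : 𝒳 ⥤ C} (h : FibCat.IsFibGrpd p) {R S : C} {a b : 𝒳}
    (f : R ⟶ S) (φ : a ⟶ b) (hφ : p.IsHomLift f φ) : p.IsStronglyCartesian f φ := by
  subst_hom_lift p f φ
  exact h.isStronglyCartesian φ

/-- in a category fibred in groupoids an arrow over an identity is determined by its composite with any arrow -/
theorem hom_ext_of_comp {𝒳 : Type u₂} [Category.{v₂} 𝒳] {p : 𝒳 ⥤ C} (h : FibCat.IsFibGrpd p) {a b c : 𝒳}
    (χ : b ⟶ c) {φ ψ : a ⟶ b} (hb : p.map φ = p.map ψ) (e : φ ≫ χ = ψ ≫ χ) : φ = ψ := by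
  have h1 := h.isStronglyCartesian χ
  have h2 : p.IsHomLift (p.map φ) ψ := by rw [hb]; infer_instance
  exact Functor.IsStronglyCartesian.ext p (p.map χ) χ (p.map φ) e

/-- an arrow over an identity between objects of a category fibred in groupoids is an isomorphism -/
theorem isIso_of_id {𝒳 : Type u₂} [Category.{v₂} 𝒳] {p : 𝒳 ⥤ C} (h : FibCat.IsFibGrpd p) {T : C} {a b : 𝒳}
    (φ : a ⟶ b) (hφ : p.IsHomLift (𝟙 T) φ) : IsIso φ := by
  have := isStrCart h (𝟙 T) φ hφ
  exact Functor.IsStronglyCartesian.isIso_of_base_isIso p (𝟙 T) φ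

/-- composition with a morphism as a functor of slices over `C` (in any category) -/
def ovMap {U V : C} (h : U ⟶ V) : FibCat.overCat U ⥤ᵇ FibCat.overCat V where
  toFunctor := Over.map h
  w := rfl

/-- the arrow of `𝒴` given by `y` on `p : T ⟶ P`. -/
abbrev yArr {U P T : C} (y : FibCat.overCat U ⥤ᵇ 𝒴) (π : P ⟶ U) (p : T ⟶ P) :
    y.obj (Over.mk (p ≫ π)) ⟶ y.obj (Over.mk π) := y.map (Over.homMk p rfl)

instance yArr_isHomLift {U P T : C} (y : FibCat.overCat U ⥤ᵇ 𝒴) (π : P ⟶ U) (p : T ⟶ P) :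
    𝒴.p.IsHomLift p (yArr y π p) := by
  have : (FibCat.overCat U).p.IsHomLift p (Over.homMk p rfl : Over.mk (p ≫ π) ⟶ Over.mk π) :=
    IsHomLift.map (FibCat.overCat U).p (Over.homMk p rfl : Over.mk (p ≫ π) ⟶ Over.mk π)
  infer_instance

section

variable {U X P : C} (y : FibCat.overCat U ⥤ᵇ 𝒴) (f : FibCat.overCat X ⥤ᵇ 𝒴) (π : P ⟶ U) (φ : P ⟶ X)

theorem exists_iso (h𝒴 : FibCat.IsFibGrpd 𝒴.p) (θ : y.obj (Over.mk π) ≅ f.obj (Over.mk φ))
    (hθ : 𝒴.p.IsHomLift (𝟙 P) θ.hom) {T : C} (p : T ⟶ P) :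
    ∃ θ' : y.obj (Over.mk (p ≫ π)) ≅ f.obj (Over.mk (p ≫ φ)), 𝒴.p.IsHomLift (𝟙 T) θ'.hom ∧
      θ'.hom ≫ yArr f φ p = yArr y π p ≫ θ.hom := by
  have h1 : 𝒴.p.IsStronglyCartesian p (yArr y π p) := isStrCart h𝒴 _ _ inferInstance
  have h1' : 𝒴.p.IsStronglyCartesian p (yArr y π p ≫ θ.hom) := isStrCart h𝒴 _ _ inferInstance
  have h2 : 𝒴.p.IsStronglyCartesian p (yArr f φ p) := isStrCart h𝒴 _ _ inferInstance
  exact ⟨Functor.IsCartesian.domainUniqueUpToIso 𝒴.p p (yArr f φ p) (yArr y π p ≫ θ.hom), inferInstance, by simp⟩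

/-- `P` with `π`, `φ`, `θ` represents the isomorphisms between `y` and `f`. -/
def Rep (θ : y.obj (Over.mk π) ≅ f.obj (Over.mk φ)) : Prop :=
  ∀ (T : C) (t : T ⟶ U) (x : T ⟶ X) (θ' : y.obj (Over.mk t) ≅ f.obj (Over.mk x)), 𝒴.p.IsHomLift (𝟙 T) θ'.hom →
    ∃! p : T ⟶ P, ∃ (h1 : p ≫ π = t) (h2 : p ≫ φ = x),
      θ'.hom ≫ f.map (Over.homMk p h2 : Over.mk x ⟶ Over.mk φ) =
        y.map (Over.homMk p h1 : Over.mk t ⟶ Over.mk π) ≫ θ.hom

/-- An object representing isomorphisms represents the 2-fibre product over the base. -/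
theorem exists_isEquivOver (h𝒴 : FibCat.IsFibGrpd 𝒴.p) (θ : y.obj (Over.mk π) ≅ f.obj (Over.mk φ))
    (hθ : 𝒴.p.IsHomLift (𝟙 P) θ.hom) (H : Rep y f π φ θ) :
    ∃ e : FibCat.overCat P ⥤ᵇ FibCat.fp y f, FibCat.IsEquivOver e ∧
      BasedFunctor.comp e (FibCat.fpFst y f) = ovMap π ∧ BasedFunctor.comp e (FibCat.fpSnd y f) = ovMap φ := by
  choose θ' hθ'1 hθ'2 using fun (q : Over P) => exists_iso y f π φ h𝒴 θ hθ q.hom
  have hlift : ∀ (q : Over P), 𝒴.p.IsHomLift (𝟙 q.left) (θ' q).hom := hθ'1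
  have hnat : ∀ {q q' : Over P} (g : q ⟶ q'), y.map ((Over.map π).map g) ≫ (θ' q').hom =
      (θ' q).hom ≫ f.map ((Over.map φ).map g) := by
    intro q q' g
    have hbase1 : 𝒴.p.IsHomLift g.left (y.map ((Over.map π).map g)) := by
      have : (FibCat.overCat U).p.IsHomLift g.left ((Over.map π).map g) :=
        IsHomLift.map (FibCat.overCat U).p ((Over.map π).map g)
      infer_instance
    have hbase2 : 𝒴.p.IsHomLift g.left (f.map ((Over.map φ).map g)) := by
      have : (FibCat.overCat X).p.IsHomLift g.left ((Over.map φ).map g) :=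
        IsHomLift.map (FibCat.overCat X).p ((Over.map φ).map g)
      infer_instance
    have i1 := hlift q
    have i2 := hlift q'
    apply hom_ext_of_comp h𝒴 (yArr f φ q'.hom)
    · have a1 : 𝒴.p.IsHomLift g.left (y.map ((Over.map π).map g) ≫ (θ' q').hom) := inferInstance
      have a2 : 𝒴.p.IsHomLift g.left ((θ' q).hom ≫ f.map ((Over.map φ).map g)) := inferInstance
      rw [IsHomLift.fac' 𝒴.p g.left (y.map ((Over.map π).map g) ≫ (θ' q').hom),
        IsHomLift.fac' 𝒴.p g.left ((θ' q).hom ≫ f.map ((Over.map φ).map g))]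
    · rw [Category.assoc, Category.assoc, hθ'2]
      have e1 : f.map ((Over.map φ).map g) ≫ yArr f φ q'.hom = f.map (Over.homMk q.hom rfl :
          Over.mk (q.hom ≫ φ) ⟶ Over.mk φ) := by
        rw [← Functor.map_comp]
        congr 1
        apply Over.OverMorphism.ext
        exact Over.w g
      have e2 : y.map ((Over.map π).map g) ≫ yArr y π q'.hom = y.map (Over.homMk q.hom rfl :
          Over.mk (q.hom ≫ π) ⟶ Over.mk π) := by
        rw [← Functor.map_comp]
        congr 1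
        apply Over.OverMorphism.ext
        exact Over.w g
      erw [e1, reassoc_of% e2]
      exact (hθ'2 q).symm
  let ι : BasedFunctor.comp (ovMap π) y ≅ BasedFunctor.comp (ovMap φ) f :=
    BasedNatIso.mkNatIso (NatIso.ofComponents (fun q => θ' q) (fun g => hnat g)) (fun q => hlift q)
  have hι : ∀ q : Over P, ι.hom.toNatTrans.app q = (θ' q).hom := fun q => rfl
  refine ⟨FibCat.fpLift (ovMap π) (ovMap φ) ι, ?_, rfl, rfl⟩
  apply Fib.isEquivOver_of
  · -- full
    refine ⟨fun {q q'} g => ?_⟩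
    -- the first component gives a morphism `q.left ⟶ q'.left` compatible with `π`, the second with `φ`
    have hgs : (FibCat.overCat X).p.IsHomLift g.hom.fst.left g.hom.snd := FibCat.fp_isHomLift_snd y f g
    have hgs' : g.hom.fst.left = g.hom.snd.left :=
      IsHomLift.eq_of_isHomLift (FibCat.overCat X).p (a := (Over.map φ).obj q) (b := (Over.map φ).obj q')
        (show q.left ⟶ q'.left from g.hom.fst.left) g.hom.snd
    have w1 : g.hom.fst.left ≫ q'.hom ≫ π = q.hom ≫ π := Over.w g.hom.fst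
    have w2 : g.hom.fst.left ≫ q'.hom ≫ φ = q.hom ≫ φ := by
      rw [hgs']
      exact Over.w g.hom.snd
    have hw : y.map g.hom.fst ≫ (θ' q').hom = (θ' q).hom ≫ f.map g.hom.snd := g.hom.w
    -- uniqueness
    have hu := H q.left (q.hom ≫ π) (q.hom ≫ φ) (θ' q) (hlift q)
    have key : g.hom.fst.left ≫ q'.hom = q.hom := by
      refine hu.unique ⟨by rw [Category.assoc, w1], by rw [Category.assoc, w2], ?_⟩ ⟨rfl, rfl, hθ'2 q⟩
      have e1 : (Over.homMk (g.hom.fst.left ≫ q'.hom) (by rw [Category.assoc]; exact w2) :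
          Over.mk (q.hom ≫ φ) ⟶ Over.mk φ) = g.hom.snd ≫ (Over.homMk q'.hom rfl :
          Over.mk (q'.hom ≫ φ) ⟶ Over.mk φ) := by
        ext
        change g.hom.fst.left ≫ q'.hom = g.hom.snd.left ≫ q'.hom
        rw [hgs']
      have e2 : (Over.homMk (g.hom.fst.left ≫ q'.hom) (by rw [Category.assoc]; exact w1) :
          Over.mk (q.hom ≫ π) ⟶ Over.mk π) = g.hom.fst ≫ (Over.homMk q'.hom rfl :
          Over.mk (q'.hom ≫ π) ⟶ Over.mk π) := by
        ext
        rfl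
      erw [e1, e2, Functor.map_comp, Functor.map_comp, Category.assoc, ← hθ'2 q', reassoc_of% hw]
    refine ⟨Over.homMk g.hom.fst.left key, ?_⟩
    apply ObjectProperty.hom_ext
    apply CategoricalPullback.hom_ext
    · apply Over.OverMorphism.ext
      rfl
    · apply Over.OverMorphism.ext
      exact hgs'
  · -- faithful
    refine ⟨fun {q q' g g'} h => ?_⟩
    have h1 := congrArg (fun z => z.hom.fst.left) h
    apply Over.OverMorphism.ext
    exact h1
  · rintro ⟨⟨t, x, θ₀⟩, hθ₀⟩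
    have hθ₀' : 𝒴.p.IsHomLift (𝟙 t.left) θ₀.hom := hθ₀
    -- `x` lies over the same object
    obtain ⟨T, ⟨⟨⟩⟩, t⟩ := t
    obtain ⟨T', ⟨⟨⟩⟩, x⟩ := x
    have hT : T' = T := by
      have h1 : 𝒴.p.obj (f.obj (Over.mk x)) = T := IsHomLift.codomain_eq 𝒴.p (𝟙 T) θ₀.hom
      exact (f.w_obj (Over.mk x)).symm.trans h1
    subst hT
    obtain ⟨p, ⟨h1, h2, h3⟩, -⟩ := H T' t x θ₀ hθ₀'
    change p ≫ π = t at h1
    change p ≫ φ = x at h2
    subst h1
    subst h2
    have h4 : θ' (Over.mk p) = θ₀ := by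
      ext
      apply hom_ext_of_comp h𝒴 (yArr f φ p)
      · have i1 : 𝒴.p.IsHomLift (𝟙 T') (θ' (Over.mk p)).hom := hlift (Over.mk p)
        have i2 : 𝒴.p.IsHomLift (𝟙 T') θ₀.hom := hθ₀'
        rw [IsHomLift.fac' 𝒴.p (𝟙 T') (θ' (Over.mk p)).hom, IsHomLift.fac' 𝒴.p (𝟙 T') θ₀.hom]
      · exact (hθ'2 (Over.mk p)).trans h3.symm
    subst h4
    exact ⟨Over.mk p, Iso.refl _, IsHomLift.id rfl⟩

end

end K744.IsomFp
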