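import Groth.Prelude.Def_AlgSt5
import Groth.Agent.Books.BorelOrb
import Groth.Agent.AlgSt.K744.Fib

/-!
# Morphisms of the quotient stack `[X/G]`: cartesian arrows, arrows from trivial torsors
-/

set_option autoImplicit false
set_option backward.isDefEq.respectTransparency false
set_option backward.isDefEq.respectTransparency.types false

universe w v u

open CategoryTheory CategoryTheory.Limits MonoidalCategory CartesianMonoidalCategory MonObj GrpObj AlgebraicGeometry
open Groth.Agent.Books.BorelOrb AlgSt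

namespace K744.Quot

variable {S : Scheme.{u}} {K : Precoverage Scheme.{u}} {G : Over S} [GrpObj G] {X : Over S} {aX : AlgGrp.Action G X}

/-- equivariance on points -/
lemma sm_comp_of_eqv {P P' : Over S} {a : AlgGrp.Action G P} {a' : AlgGrp.Action G P'} {f : P ⟶ P'}
    (h : a.act ≫ f = (G ◁ f) ≫ a'.act) {T : Over S} (g : T ⟶ G) (p : T ⟶ P) :
    sm a g p ≫ f = sm a' g (p ≫ f) := by
  rw [sm, sm, Category.assoc, h, ← Category.assoc]
  congr 1
  simp

/-- equivariance from points -/
lemma eqv_of_sm_comp {P P' : Over S} {a : AlgGrp.Action G P} {a' : AlgGrp.Action G P'} {f : P ⟶ P'}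
    (h : ∀ {T : Over S} (g : T ⟶ G) (p : T ⟶ P), sm a g p ≫ f = sm a' g (p ≫ f)) :
    a.act ≫ f = (G ◁ f) ≫ a'.act := by
  have := h (fst G P) (snd G P)
  rw [sm, lift_fst_snd, Category.id_comp, sm] at this
  rw [this]
  congr 1

lemma sm_leftMul {T Y : Over S} (g : Y ⟶ G) (h : Y ⟶ G ⊗ T) :
    sm (leftMul G T) g h = lift (g * (h ≫ fst G T)) (h ≫ snd G T) := by
  rw [sm, leftMul]
  apply CartesianMonoidalCategory.hom_ext
  · rw [Category.assoc, lift_fst, lift_fst, comp_mul, lift_fst, lift_snd_assoc]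
  · rw [Category.assoc, lift_snd, lift_snd, lift_snd_assoc]

/-- the action is invariant for `π` -/
lemma sm_comp_π (A : QuotObj K G aX) {T : Over S} (g : T ⟶ G) (p : T ⟶ A.P) : sm A.act g p ≫ A.π = p ≫ A.π := by
  rw [sm, Category.assoc, A.cart.w, lift_snd_assoc]

/-- the transporter: the `g` with `g • p' = p` for two points of a torsor over the same point of the base. -/
theorem existsUnique_transporter (A : QuotObj K G aX) {T : Over S} (p p' : T ⟶ A.P) (h : p ≫ A.π = p' ≫ A.π) :
    ∃! g : T ⟶ G, sm A.act g p' = p := by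
  refine ⟨A.cart.lift p p' h ≫ fst G A.P, ?_, ?_⟩
  · have h1 : A.cart.lift p p' h ≫ A.act.act = p := A.cart.lift_fst _ _ _
    have h2 : A.cart.lift p p' h ≫ snd G A.P = p' := A.cart.lift_snd _ _ _
    change lift (A.cart.lift p p' h ≫ fst G A.P) p' ≫ A.act.act = p
    conv_rhs => rw [← h1]
    congr 1
    apply CartesianMonoidalCategory.hom_ext
    · rw [lift_fst]
    · rw [lift_snd, h2]
  · intro g hg
    have : A.cart.lift p p' h = lift g p' := by
      apply A.cart.hom_ext
      · rw [A.cart.lift_fst]; exact hg.symm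
      · rw [A.cart.lift_snd, lift_snd]
    rw [this, lift_fst]

/-- Every arrow of `[X/G]` is strongly cartesian. -/
theorem isStronglyCartesian {A B : QuotObj K G aX} (φ : A ⟶ B) :
    (QuotObj.forget K G aX).IsStronglyCartesian ((QuotObj.forget K G aX).map φ) φ where
  universal_property' := fun {A'} g ψ hψ => by
    have hb : g ≫ φ.base = ψ.base :=
      IsHomLift.eq_of_isHomLift (QuotObj.forget K G aX) (g ≫ (QuotObj.forget K G aX).map φ) ψ
    have hw : ψ.top ≫ B.π = (A'.π ≫ g) ≫ φ.base := by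
      rw [ψ.cart.w, Category.assoc, hb]
    let t : A'.P ⟶ A.P := φ.cart.lift ψ.top (A'.π ≫ g) hw
    have ht1 : t ≫ φ.top = ψ.top := φ.cart.lift_fst _ _ _
    have ht2 : t ≫ A.π = A'.π ≫ g := φ.cart.lift_snd _ _ _
    let χ : A' ⟶ A :=
      { base := g
        top := t
        eqv := by
          apply φ.cart.hom_ext
          · rw [Category.assoc, ht1, ψ.eqv, ← ht1, MonoidalCategory.whiskerLeft_comp, Category.assoc, Category.assoc,
              ← φ.eqv]
          · rw [Category.assoc, ht2, ← Category.assoc, A'.cart.w, Category.assoc, Category.assoc, A.cart.w,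
              whiskerLeft_snd_assoc, ht2]
        cart := by
          apply IsPullback.of_right (h₁₂ := φ.top) (h₂₂ := φ.base) (v₁₃ := B.π) _ ht2 φ.cart
          rw [ht1, hb]
          exact ψ.cart
        wφ := by
          rw [← φ.wφ, ← Category.assoc, ht1, ψ.wφ] }
    refine ⟨χ, ⟨?_, QuotObj.hom_ext hb ht1⟩, ?_⟩
    · exact IsHomLift.map (QuotObj.forget K G aX) χ
    · rintro χ' ⟨hχ', h2⟩
      have hg : g = χ'.base := IsHomLift.eq_of_isHomLift (QuotObj.forget K G aX) g χ'
      refine QuotObj.hom_ext hg.symm ?_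
      apply φ.cart.hom_ext
      · rw [ht1, ← h2]; rfl
      · exact χ'.cart.w.trans ((congrArg (A'.π ≫ ·) hg.symm).trans ht2.symm)

/-- the unit point of the trivial torsor. -/
noncomputable def unitPt (G : Over S) [GrpObj G] (T : Over S) : T ⟶ G ⊗ T := lift (toUnit T ≫ η[G]) (𝟙 T)

lemma unitPt_fst (T : Over S) : unitPt G T ≫ fst G T = 1 := by rw [unitPt, lift_fst, Hom.one_def]

lemma unitPt_snd (T : Over S) : unitPt G T ≫ snd G T = 𝟙 T := lift_snd _ _

/-- An arrow from the trivial torsor with equivariant map given by `x` to `A` is the same as a point of `A` over `x`: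
from the point to the arrow. -/
noncomputable def tau [K.HasIsos] (A : QuotObj K G aX) (a : (ofSch X).obj) (p : a.base ⟶ A.P)
    (h : p ≫ A.φ = a.sec.down) : (quotMap K G aX).obj a ⟶ A where
  base := p ≫ A.π
  top := sm A.act (fst G a.base) (snd G a.base ≫ p)
  eqv := by
    change (leftMul G a.base).act ≫ _ = (G ◁ _) ≫ A.act.act
    apply eqv_of_sm_comp
    intro T g q
    rw [sm_leftMul, comp_sm, lift_fst, lift_snd_assoc, mul_sm, comp_sm, Category.assoc]
  cart := by
    change IsPullback (sm A.act (fst G a.base) (snd G a.base ≫ p)) (snd G a.base) A.π (p ≫ A.π)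
    have h1 : IsPullback (G ◁ p) (snd G a.base) (snd G A.P) p := isPullback_whiskerLeft p
    have h2 := h1.paste_horiz A.cart
    have e : sm A.act (fst G a.base) (snd G a.base ≫ p) = (G ◁ p) ≫ A.act.act := by
      rw [sm]
      congr 1
    rw [e]
    exact h2
  wφ := by
    change sm A.act (fst G a.base) (snd G a.base ≫ p) ≫ A.φ = (G ◁ a.sec.down) ≫ aX.act
    rw [sm_comp_of_eqv A.eqv, Category.assoc, h, sm]
    congr 1

@[simp] lemma tau_base [K.HasIsos] (A : QuotObj K G aX) (a : (ofSch X).obj) (p : a.base ⟶ A.P)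
    (h : p ≫ A.φ = a.sec.down) : (tau A a p h).base = p ≫ A.π := rfl

lemma tau_top [K.HasIsos] (A : QuotObj K G aX) (a : (ofSch X).obj) (p : a.base ⟶ A.P)
    (h : p ≫ A.φ = a.sec.down) : (tau A a p h).top = sm A.act (fst G a.base) (snd G a.base ≫ p) := rfl

/-- from the arrow to the point. -/
noncomputable def pt [K.HasIsos] {A : QuotObj K G aX} {a : (ofSch X).obj} (σ : (quotMap K G aX).obj a ⟶ A) :
    a.base ⟶ A.P := unitPt G a.base ≫ σ.top

lemma pt_φ [K.HasIsos] {A : QuotObj K G aX} {a : (ofSch X).obj} (σ : (quotMap K G aX).obj a ⟶ A) :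
    pt σ ≫ A.φ = a.sec.down := by
  rw [pt, Category.assoc, σ.wφ]
  change unitPt G a.base ≫ (G ◁ a.sec.down) ≫ aX.act = _
  have : unitPt G a.base ≫ (G ◁ a.sec.down) = lift 1 a.sec.down := by
    apply CartesianMonoidalCategory.hom_ext
    · rw [Category.assoc, whiskerLeft_fst, lift_fst, unitPt_fst]
    · rw [Category.assoc, whiskerLeft_snd, lift_snd, ← Category.assoc, unitPt_snd, Category.id_comp]
  rw [← Category.assoc, this]
  exact one_sm aX a.sec.down

lemma pt_π [K.HasIsos] {A : QuotObj K G aX} {a : (ofSch X).obj} (σ : (quotMap K G aX).obj a ⟶ A) :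
    pt σ ≫ A.π = σ.base := by
  rw [pt, Category.assoc, σ.cart.w]
  change unitPt G a.base ≫ snd G a.base ≫ σ.base = σ.base
  rw [← Category.assoc, unitPt_snd, Category.id_comp]

lemma pt_tau [K.HasIsos] (A : QuotObj K G aX) (a : (ofSch X).obj) (p : a.base ⟶ A.P)
    (h : p ≫ A.φ = a.sec.down) : pt (tau A a p h) = p := by
  rw [pt, tau_top, comp_sm, unitPt_fst, one_sm, ← Category.assoc, unitPt_snd, Category.id_comp]

/-- an arrow from a trivial torsor is determined by its point. -/
lemma top_eq [K.HasIsos] {A : QuotObj K G aX} {a : (ofSch X).obj} (σ : (quotMap K G aX).obj a ⟶ A) :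
    σ.top = sm A.act (fst G a.base) (snd G a.base ≫ pt σ) := by
  rw [pt]
  have h1 := sm_comp_of_eqv (a := leftMul G a.base) (a' := A.act) σ.eqv (fst G a.base)
    (snd G a.base ≫ unitPt G a.base)
  rw [Category.assoc] at h1
  refine Eq.trans ?_ h1
  rw [sm_leftMul]
  have : lift (fst G a.base * ((snd G a.base ≫ unitPt G a.base) ≫ fst G a.base))
      ((snd G a.base ≫ unitPt G a.base) ≫ snd G a.base) = 𝟙 _ := by
    rw [Category.assoc, Category.assoc, unitPt_fst, unitPt_snd, comp_one, _root_.mul_one, Category.comp_id, lift_fst_snd]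
  rw [this, Category.id_comp]

lemma tau_pt [K.HasIsos] {A : QuotObj K G aX} {a : (ofSch X).obj} (σ : (quotMap K G aX).obj a ⟶ A) :
    tau A a (pt σ) (pt_φ σ) = σ :=
  QuotObj.hom_ext (by rw [tau_base, pt_π]) (by rw [tau_top, ← top_eq])

lemma hom_ext_pt [K.HasIsos] {A : QuotObj K G aX} {a : (ofSch X).obj} {σ σ' : (quotMap K G aX).obj a ⟶ A}
    (h : pt σ = pt σ') : σ = σ' := by
  rw [← tau_pt σ, ← tau_pt σ']
  congr 1

lemma pt_comp [K.HasIsos] {A B : QuotObj K G aX} {a : (ofSch X).obj} (σ : (quotMap K G aX).obj a ⟶ A) (f : A ⟶ B) :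
    pt (σ ≫ f) = pt σ ≫ f.top := by
  rw [pt, pt, QuotObj.comp_top, Category.assoc]

lemma pt_map_comp [K.HasIsos] {A : QuotObj K G aX} {a b : (ofSch X).obj} (f : a ⟶ b)
    (σ : (quotMap K G aX).obj b ⟶ A) : pt ((quotMap K G aX).map f ≫ σ) = f.hom ≫ pt σ := by
  rw [pt, pt, QuotObj.comp_top]
  change unitPt G a.base ≫ (G ◁ f.hom) ≫ σ.top = f.hom ≫ unitPt G b.base ≫ σ.top
  rw [← Category.assoc, ← Category.assoc]
  congr 1
  apply CartesianMonoidalCategory.hom_ext
  · rw [Category.assoc, whiskerLeft_fst, unitPt_fst, Category.assoc, unitPt_fst, comp_one]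
  · rw [Category.assoc, whiskerLeft_snd, Category.assoc, unitPt_snd, ← Category.assoc, unitPt_snd, Category.comp_id,
      Category.id_comp]

end K744.Quot
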