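import Groth.Agent.AlgSt.K744.QuotFib
import Groth.Agent.AlgSt.K744.IsomFp

/-!
# The fibre product of a map to `[X/G]` with `X ⟶ [X/G]` is the torsor
-/

set_option autoImplicit false
set_option backward.isDefEq.respectTransparency false
set_option backward.isDefEq.respectTransparency.types false

universe w v u

open CategoryTheory CategoryTheory.Limits MonoidalCategory CartesianMonoidalCategory MonObj GrpObj AlgebraicGeometry
open Groth.Agent.Books.BorelOrb AlgSt

namespace K744.QuotFp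

open K744.Quot K744.IsomFp

variable {S : Scheme.{u}} {K : Precoverage Scheme.{u}} {G : Over S} [GrpObj G] {X : Over S} {aX : AlgGrp.Action G X}

theorem map_isHomLift {C : Type*} [Category C] {𝒳 𝒴 : BasedCategory C} (F : 𝒳 ⥤ᵇ 𝒴) {R T : C} (f : R ⟶ T)
    {a b : 𝒳.obj} (φ : a ⟶ b) (h : 𝒳.p.IsHomLift f φ) : 𝒴.p.IsHomLift f (F.map φ) :=
  BasedFunctor.preserves_isHomLift F f φ

section

variable [K.HasIsos] [K.IsStableUnderBaseChange] {U : Over S} (y : FibCat.overCat U ⥤ᵇ QuotSt K G aX)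

/-- the chart `(Sch/X) ⟶ [X/G]` -/
noncomputable abbrev chart (K : Precoverage Scheme.{u}) [K.HasIsos] (G : Over S) [GrpObj G] {X : Over S}
    (aX : AlgGrp.Action G X) : FibCat.overCat X ⥤ᵇ QuotSt K G aX :=
  BasedFunctor.comp (ofOverCat X) (quotMap K G aX)

/-- the torsor of `y` -/
noncomputable abbrev tors : QuotObj K G aX := y.obj (Over.mk (𝟙 U))

omit [K.HasIsos] [K.IsStableUnderBaseChange] in
lemma tors_base : (tors y).base = U := y.w_obj (Over.mk (𝟙 U))

/-- its structure morphism to `U` -/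
noncomputable def strU : (tors y).P ⟶ U := (tors y).π ≫ eqToHom (tors_base y)

/-- The square of `X ⟶ [X/G]` over `y`: `tors y` represents the isomorphisms. -/
theorem exists_isEquivOver_overCat :
    ∃ e : FibCat.overCat (tors y).P ⥤ᵇ FibCat.fp y (chart K G aX), FibCat.IsEquivOver e ∧
      BasedFunctor.comp e (FibCat.fpFst y (chart K G aX)) = ovMap (strU y) ∧
      BasedFunctor.comp e (FibCat.fpSnd y (chart K G aX)) = ovMap (tors y).φ := by
  have hF : FibCat.IsFibGrpd (QuotSt K G aX).p := QuotFib.isFibGrpd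
  -- arrows to `A`
  let A := tors y
  let π := strU y
  let aP : (ofSch X).obj := ⟨A.P, ⟨A.φ⟩⟩
  let τ : (chart K G aX).obj (Over.mk A.φ) ⟶ A := tau A aP (𝟙 A.P) (Category.id_comp _)
  let σ : y.obj (Over.mk π) ⟶ A := y.map (Over.homMk π (by simp) : Over.mk π ⟶ Over.mk (𝟙 U))
  have hτ : (QuotSt K G aX).p.IsHomLift π τ := by
    apply IsHomLift.of_fac' (QuotSt K G aX).p π τ rfl (tors_base y)
    change 𝟙 A.P ≫ A.π = 𝟙 _ ≫ (A.π ≫ eqToHom _) ≫ eqToHom _
    simp
  have hσ : (QuotSt K G aX).p.IsHomLift π σ :=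
    map_isHomLift y π _ (IsHomLift.map (FibCat.overCat U).p (Over.homMk π (by simp) : Over.mk π ⟶ Over.mk (𝟙 U)))
  have cτ := isStrCart hF π τ hτ
  have cσ := isStrCart hF π σ hσ
  let θ : y.obj (Over.mk π) ≅ (chart K G aX).obj (Over.mk A.φ) :=
    Functor.IsCartesian.domainUniqueUpToIso (QuotSt K G aX).p π τ σ
  have hθ : (QuotSt K G aX).p.IsHomLift (𝟙 A.P) θ.hom := inferInstance
  have hθτ : θ.hom ≫ τ = σ := by simp [θ]
  have hpτ : pt (a := aP) τ = 𝟙 _ := pt_tau A aP (𝟙 A.P) _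
  apply exists_isEquivOver y (chart K G aX) π A.φ hF θ hθ
  intro T t x θ' hθ'
  -- the arrow from the trivial torsor to `A`
  let aT : (ofSch X).obj := ⟨T, ⟨x⟩⟩
  let tt : y.obj (Over.mk t) ⟶ A := y.map (Over.homMk t (by simp) : Over.mk t ⟶ Over.mk (𝟙 U))
  have htt : (QuotSt K G aX).p.IsHomLift t tt :=
    map_isHomLift y t _ (IsHomLift.map (FibCat.overCat U).p (Over.homMk t (by simp) : Over.mk t ⟶ Over.mk (𝟙 U)))
  let ρ : (quotMap K G aX).obj aT ⟶ A := θ'.inv ≫ tt
  have hρ : (QuotSt K G aX).p.IsHomLift t ρ := by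
    have : (QuotSt K G aX).p.IsHomLift (𝟙 T) θ'.inv := inferInstance
    change (QuotSt K G aX).p.IsHomLift t (θ'.inv ≫ tt)
    infer_instance
  have hρt : ρ.base ≫ eqToHom (tors_base y) = t := by
    have h1 : ρ.base = eqToHom _ ≫ t ≫ eqToHom _ := IsHomLift.fac' (QuotSt K G aX).p t ρ
    have h2 : ρ.base = t ≫ eqToHom (tors_base y).symm := by
      rw [h1]
      exact Category.id_comp _
    rw [h2]
    simp
  have hptx : pt ρ ≫ A.φ = x := pt_φ ρ
  have hptt : pt ρ ≫ π = t := by
    change pt ρ ≫ A.π ≫ eqToHom _ = t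
    rw [← Category.assoc, pt_π, hρt]
  refine ⟨pt ρ, ⟨hptt, hptx, ?_⟩, ?_⟩
  · -- compatibility
    have i1 : (QuotSt K G aX).p.IsHomLift (pt ρ)
        ((chart K G aX).map (Over.homMk (pt ρ) hptx : Over.mk x ⟶ Over.mk A.φ)) :=
      map_isHomLift (chart K G aX) (pt ρ) _
        (IsHomLift.map (FibCat.overCat X).p (Over.homMk (pt ρ) hptx : Over.mk x ⟶ Over.mk A.φ))
    have i2 : (QuotSt K G aX).p.IsHomLift (pt ρ) (y.map (Over.homMk (pt ρ) hptt : Over.mk t ⟶ Over.mk π)) :=
      map_isHomLift y (pt ρ) _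
        (IsHomLift.map (FibCat.overCat U).p (Over.homMk (pt ρ) hptt : Over.mk t ⟶ Over.mk π))
    apply hom_ext_of_comp hF τ
    · have a1 : (QuotSt K G aX).p.IsHomLift (pt ρ)
          (θ'.hom ≫ (chart K G aX).map (Over.homMk (pt ρ) hptx : Over.mk x ⟶ Over.mk A.φ)) := inferInstance
      have a2 : (QuotSt K G aX).p.IsHomLift (pt ρ)
          (y.map (Over.homMk (pt ρ) hptt : Over.mk t ⟶ Over.mk π) ≫ θ.hom) := inferInstance
      rw [IsHomLift.fac' (QuotSt K G aX).p (pt ρ)
          (θ'.hom ≫ (chart K G aX).map (Over.homMk (pt ρ) hptx : Over.mk x ⟶ Over.mk A.φ)),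
        IsHomLift.fac' (QuotSt K G aX).p (pt ρ)
          (y.map (Over.homMk (pt ρ) hptt : Over.mk t ⟶ Over.mk π) ≫ θ.hom)]
    · rw [Category.assoc, Category.assoc, hθτ]
      have e1 : y.map (Over.homMk (pt ρ) hptt : Over.mk t ⟶ Over.mk π) ≫ σ = tt := by
        change y.map _ ≫ y.map _ = y.map _
        rw [← Functor.map_comp]
        congr 1
        apply Over.OverMorphism.ext
        exact hptt
      rw [e1]
      have e2 : (chart K G aX).map (Over.homMk (pt ρ) hptx : Over.mk x ⟶ Over.mk A.φ) ≫ τ = ρ := by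
        apply hom_ext_pt (a := aT)
        have := pt_map_comp (K := K) (G := G) (aX := aX) ((ofOverCat X).map
          (Over.homMk (pt ρ) hptx : Over.mk x ⟶ Over.mk A.φ)) τ
        refine this.trans ?_
        exact (congrArg (pt ρ ≫ ·) hpτ).trans (Category.comp_id _)
      rw [e2]
      change θ'.hom ≫ θ'.inv ≫ tt = tt
      rw [Iso.hom_inv_id_assoc]
  · rintro p ⟨h1, h2, h3⟩
    -- compose with `τ`
    have h4 := congrArg (· ≫ τ) h3
    simp only [Category.assoc] at h4
    rw [hθτ] at h4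
    have e1 : y.map (Over.homMk p h1 : Over.mk t ⟶ Over.mk π) ≫ σ = tt := by
      change y.map _ ≫ y.map _ = y.map _
      rw [← Functor.map_comp]
      congr 1
      apply Over.OverMorphism.ext
      exact h1
    rw [e1] at h4
    have h5 : (chart K G aX).map (Over.homMk p h2 : Over.mk x ⟶ Over.mk A.φ) ≫ τ = ρ := by
      change _ = θ'.inv ≫ tt
      rw [← h4, Iso.inv_hom_id_assoc]
    have h6 := pt_map_comp (K := K) (G := G) (aX := aX) ((ofOverCat X).map
      (Over.homMk p h2 : Over.mk x ⟶ Over.mk A.φ)) τ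
    have h7 := (congrArg (pt (a := aT)) h5).symm.trans h6
    rw [h7]
    exact ((congrArg (p ≫ ·) hpτ).trans (Category.comp_id _)).symm

end

/-- the map of sheaves attached to composition with a morphism of schemes -/
theorem spMapOfOver_toOverCat_ovMap {P U : Over S} (π : P ⟶ U) :
    spMapOfOver (BasedFunctor.comp (toOverCat P) (ovMap π)) = (AlgSp.yon S).map π := by
  apply ObjectProperty.hom_ext
  ext T x
  dsimp
  apply ULift.ext
  change secHom _ _ = _
  rw [secHom]
  exact Category.id_comp _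

end K744.QuotFp
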