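import Groth.Prelude.Def_AlgSt6
import Groth.Agent.GrpQ.K185.Cover
import Groth.Agent.GrpQ.K185.Inst
import Groth.Agent.AlgSp.K615.Pt

/-!
# Local sections in terms of covering sieves (helper744)
-/

set_option autoImplicit false
set_option backward.isDefEq.respectTransparency false
set_option backward.isDefEq.respectTransparency.types false

universe w v u

open CategoryTheory CategoryTheory.Limits AlgebraicGeometry AlgSt
open scoped K185

namespace K744.SecLoc

variable {S : Scheme.{u}}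

/-- `π : P ⟶ h_T` has sections fppf locally iff the arrows over which it has a section form a covering sieve. -/
theorem hasSecLoc_iff {T : Over S} {P : AlgSp.Sp S} (π : P ⟶ (AlgSp.yon S).obj T) :
    HasSecLoc Scheme.fppfPrecoverage π ↔ ∃ R ∈ AlgSp.J S T, ∀ (T' : Over S) (f : T' ⟶ T), R f →
      ∃ s : (AlgSp.yon S).obj T' ⟶ P, s ≫ π = (AlgSp.yon S).map f := by
  constructor
  · rintro ⟨R, hR, H⟩
    obtain ⟨ι, Y, f, rfl⟩ := R.exists_eq_ofArrows
    let Z : ι → Over S := fun i => Over.mk (f i ≫ T.hom)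
    let p : ∀ i, Z i ⟶ T := fun i => Over.homMk (f i)
    refine ⟨_, K185.Cover.ofArrows_mem_J (K := Scheme.fppfPrecoverage) p hR, ?_⟩
    rintro T' g ⟨W, h, k, ⟨i⟩, rfl⟩
    obtain ⟨s, hs⟩ := H (f i) (Presieve.ofArrows.mk i)
    refine ⟨(AlgSp.yon S).map h ≫ s, ?_⟩
    rw [Category.assoc, hs, Functor.map_comp]
  · rintro ⟨R, hR, H⟩
    obtain ⟨ι, Z, p, hp, hpR⟩ := K185.Cover.exists_ofArrows_of_mem_J hR
    refine ⟨_, hp, ?_⟩
    rintro T' g ⟨i⟩
    obtain ⟨s, hs⟩ := H (Z i) (p i) (hpR i)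
    let e : (Over.mk ((p i).left ≫ T.hom) : Over S) ⟶ Z i := Over.homMk (𝟙 (Z i).left) (by
      change 𝟙 _ ≫ (Z i).hom = (p i).left ≫ T.hom
      rw [Category.id_comp]
      exact (Over.w (p i)).symm)
    refine ⟨(AlgSp.yon S).map e ≫ s, ?_⟩
    rw [Category.assoc, hs, ← Functor.map_comp]
    congr 1

end K744.SecLoc
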