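import Groth.Agent.AlgSt.K744.SpQFib
import Groth.Agent.AlgSt.K744.SecLoc
import Groth.Agent.AlgSp.K619.LocSurj
import Groth.Agent.AlgSp.K608.Comp
import Groth.Agent.AlgSp.K597.EtLoc
import Groth.Agent.AlgSp.K597.LocP
import Groth.Agent.AlgSp.K609.Points
import Groth.Prelude.Def_AlgSpRep

/-!
# Sheaf torsors under group algebraic spaces are algebraic spaces (helper744), relative to S10104
-/

set_option autoImplicit false
set_option backward.isDefEq.respectTransparency false
set_option backward.isDefEq.respectTransparency.types false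

universe w v u

open CategoryTheory CategoryTheory.Limits MonoidalCategory CartesianMonoidalCategory MonObj GrpObj AlgebraicGeometry
open AlgSt AlgSp

namespace K744.SpAlg

variable {S : Scheme.{u}} {B : Sp S} {G : Over B} [GrpObj G] {X : Over B} {aX : GAction G X}

/-- a sheaf torsor has a section over one flat surjective locally finitely presented scheme. -/
theorem exists_section (A : SpQuotObj Scheme.fppfPrecoverage G aX) :
    ∃ (V : Over S) (p : V ⟶ A.base) (y : (yon S).obj V ⟶ A.P.left), Flat p.left ∧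
      LocallyOfFinitePresentation p.left ∧ Surjective p.left ∧ y ≫ A.π.left = (yon S).map p := by
  obtain ⟨R, hR', H⟩ := (SecLoc.hasSecLoc_iff _).1 A.loc
  obtain ⟨I, T', c, hR, hf, hp, hs⟩ := K619.LocSurj.exists_family hR'
  choose s hs' using fun i => H (T' i) (c i) (hR i)
  obtain ⟨V, d, j, y, hjd, hjy, hj, hjs, hP⟩ := K619.LocSurj.exists_sigma (H := A.P.left) T' c s
  refine ⟨V, d, y, hP @Flat hf, hP @LocallyOfFinitePresentation hp, ⟨fun t => ?_⟩, ?_⟩
  · obtain ⟨i, t', ht'⟩ := hs t
    refine ⟨(j i).left t', ?_⟩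
    rw [← ht', ← Scheme.Hom.comp_apply, ← Over.comp_left, hjd]
  · have hV : ∀ i, (yon S).map (j i) ≫ (y ≫ A.π.left) = (yon S).map (j i) ≫ (yon S).map d := by
      intro i
      rw [← Category.assoc, hjy, ← Functor.map_comp, hjd]
      exact hs' i
    obtain ⟨z, -, hz⟩ := K613.Basic.glueFam (F := (yon S).obj A.base) T' j (fun i => have := hj i; inferInstance)
      (fun i => have := hj i; inferInstance) hjs (fun i => (yon S).map (j i) ≫ (yon S).map d)
      (fun i k R a b' hab => by
        simp only [← Category.assoc, ← Functor.map_comp, hab])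
    exact (hz _ fun i => hV i).trans (hz _ fun i => rfl).symm

/-- the trivialised torsor as a base change -/
theorem isPullback_of_section (A : SpQuotObj Scheme.fppfPrecoverage G aX) {V : Over S} (p : V ⟶ A.base)
    (y : (yon S).obj V ⟶ A.P.left) (h : y ≫ A.π.left = (yon S).map p) :
    ∃ a : G ⊗ Over.mk ((yon S).map p ≫ A.b) ⟶ A.P,
      IsPullback a (snd G (Over.mk ((yon S).map p ≫ A.b))) A.π (bHom p rfl) := by
  let σ : Over.mk ((yon S).map p ≫ A.b) ⟶ A.P := Over.homMk y (by
    change y ≫ A.P.hom = (yon S).map p ≫ A.b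
    rw [← Over.w A.π, ← h]
    exact (Category.assoc _ _ _).symm)
  have hσ : σ ≫ A.π = bHom p rfl := by
    ext : 1
    exact h
  refine ⟨(G ◁ σ) ≫ A.act.act, ?_⟩
  have h1 := (isPullback_whiskerLeft' (G := G) σ).paste_horiz A.cart
  rw [hσ] at h1
  exact h1

/-- **Sheaf torsors under a group algebraic space are algebraic spaces** (`h104` is S10104). -/
theorem isAlgSpace_P (h104 : ∀ (F : Sp S) (U : Space S) (p : U.obj ⟶ F),
      RepBySpWith (IsSurjectiveMor ⊓ LocP @Flat ⊓ LocP @LocallyOfFinitePresentation) p.hom → IsAlgSpace F)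
    (hB : IsAlgSpace B) (hG : IsAlgSpace G.left) (A : SpQuotObj Scheme.fppfPrecoverage G aX) :
    IsAlgSpace A.P.left := by
  obtain ⟨V, p, y, hf, hp, hs, hy⟩ := exists_section A
  obtain ⟨a, sq⟩ := isPullback_of_section A p y hy
  have hA : IsAlgSpace (G ⊗ Over.mk ((yon S).map p ≫ A.b)).left :=
    K608.Comp.isAlgSpace_of_isPullback (SpQ.isPullback_left (isPullback_fst_snd' G (Over.mk ((yon S).map p ≫ A.b))))
      hG (IsAlgSpace.yon_obj V) hB
  have sq' := (SpQ.isPullback_left sq).flip
  have key : ∀ (P : MorphismProperty Scheme.{u}) [P.IsStableUnderBaseChange] (_ : P p.left), RepWith P a.left := by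
    intro P _ hP
    exact MorphismProperty.of_isPullback sq' ((repWith_yon_map_iff P p).2 hP)
  refine h104 A.P.left ⟨_, hA⟩ a.left ((repBySpWith_hom_iff _ a.left).2 fun T ξ F' fst snd sqT => ⟨?_, ⟨?_, ?_⟩, ?_⟩)
  · exact ((repBySp_hom_iff a.left).1 (Representable.repBySp (key @Flat hf).1)) ξ fst snd sqT
  · exact (K609.Points.repWith_surjective_iff (MorphismProperty.of_isPullback sqT (key @Surjective hs)).1).1
      (MorphismProperty.of_isPullback sqT (key @Surjective hs))
  · exact K597.locP_of_repWith K597.etLoc_flat.precomp (MorphismProperty.of_isPullback sqT (key @Flat hf))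
  · exact K597.locP_of_repWith K597.etLoc_lfp.precomp
      (MorphismProperty.of_isPullback sqT (key @LocallyOfFinitePresentation hp))

end K744.SpAlg
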