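import Groth.Agent.AlgSp.K615.Glue

/-!
# Descent of fppf sheaves along a covering sieve (helper744)

`Car R` : a cartesian diagram of sheaves over the arrows `V ⟶ U` of a sieve `R` on a scheme `U` over `S` (a sheaf
over `h_V` for every arrow of `R`, a cartesian square for every morphism of arrows).  `Des X` : a descended sheaf
over `h_U`.  `exists_des` : it exists when `R` is covering (fppf); `Des.existsUnique_hom` : it is the colimit of
the diagram.
-/

set_option autoImplicit false
universe u
open CategoryTheory CategoryTheory.Limits AlgebraicGeometry Opposite AlgSp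

namespace K744.SpCar

variable {S : Scheme.{u}} {U : Over S}

/-- A cartesian diagram of sheaves over the arrows of a sieve. -/
structure Car (R : Sieve U) where
  /-- the sheaves -/
  F : R.arrows.category ⥤ Sp S
  /-- the structure maps -/
  q : ∀ i : R.arrows.category, F.obj i ⟶ (yon S).obj i.obj.left
  cart : ∀ {i j : R.arrows.category} (f : i ⟶ j), IsPullback (F.map f) (q i) (q j) ((yon S).map f.hom.left)

/-- A sheaf over `h_U` descended from a cartesian diagram. -/
structure Des {R : Sieve U} (X : Car R) where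
  /-- the descended sheaf -/
  pt : Sp S
  /-- its structure map -/
  q : pt ⟶ (yon S).obj U
  /-- the cocone -/
  c : ∀ i : R.arrows.category, X.F.obj i ⟶ pt
  nat : ∀ {i j : R.arrows.category} (f : i ⟶ j), X.F.map f ≫ c j = c i
  cart : ∀ i, IsPullback (c i) (X.q i) q ((yon S).map i.obj.hom)

variable {R : Sieve U}

/-- an arrow into the source of an arrow of the sieve gives an arrow of the sieve -/
abbrev ob (i : R.arrows.category) {T : Over S} (v : T ⟶ i.obj.left) : R.arrows.category :=
  ⟨Over.mk (v ≫ i.obj.hom), R.downward_closed i.property v⟩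

/-- the corresponding morphism -/
abbrev obHom (i : R.arrows.category) {T : Over S} (v : T ⟶ i.obj.left) : ob i v ⟶ i :=
  ObjectProperty.homMk (Over.homMk v rfl)

/-- a morphism of `R.arrows.category` given by an arrow `w : T ⟶ j.left` with the same composite to `U` -/
abbrev hm (i j : R.arrows.category) {T : Over S} (v : T ⟶ i.obj.left) (w : T ⟶ j.obj.left)
    (h : w ≫ j.obj.hom = v ≫ i.obj.hom) : ob i v ⟶ j :=
  ObjectProperty.homMk (Over.homMk w h)

theorem cat_hom_ext {i j : R.arrows.category} {f g : i ⟶ j} (h : f.hom.left = g.hom.left) : f = g :=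
  ObjectProperty.hom_ext _ (Over.OverMorphism.ext h)

theorem hom_w {i j : R.arrows.category} (f : i ⟶ j) : f.hom.left ≫ j.obj.hom = i.obj.hom := Over.w f.hom

section

variable (X : Car R)

/-- the base point of a point -/
noncomputable abbrev bs {i : R.arrows.category} {T : Over S} (n : (yon S).obj T ⟶ X.F.obj i) : T ⟶ i.obj.left :=
  (yon S).preimage (n ≫ X.q i)

theorem map_bs {i : R.arrows.category} {T : Over S} (n : (yon S).obj T ⟶ X.F.obj i) :
    (yon S).map (bs X n) = n ≫ X.q i := Functor.map_preimage _ _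

/-- the section over the identity attached to a point -/
noncomputable def mid {i : R.arrows.category} {T : Over S} (n : (yon S).obj T ⟶ X.F.obj i) :
    (yon S).obj T ⟶ X.F.obj (ob i (bs X n)) :=
  (X.cart (obHom i (bs X n))).lift n (𝟙 _) (by
    rw [Category.id_comp]
    exact (map_bs X n).symm)

theorem mid_map {i : R.arrows.category} {T : Over S} (n : (yon S).obj T ⟶ X.F.obj i) :
    mid X n ≫ X.F.map (obHom i (bs X n)) = n := IsPullback.lift_fst _ _ _ _

theorem mid_q {i : R.arrows.category} {T : Over S} (n : (yon S).obj T ⟶ X.F.obj i) :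
    mid X n ≫ X.q (ob i (bs X n)) = 𝟙 _ := IsPullback.lift_snd _ _ _ _

theorem bs_map {i j : R.arrows.category} (f : i ⟶ j) {T : Over S} (n : (yon S).obj T ⟶ X.F.obj i) :
    bs X (n ≫ X.F.map f) = bs X n ≫ f.hom.left := by
  apply (yon S).map_injective
  rw [map_bs, (yon S).map_comp, map_bs, Category.assoc, Category.assoc, (X.cart f).w]

/-- transport of a point of `F i` to `F j` -/
noncomputable def tr {T : Over S} (i j : R.arrows.category) (n : (yon S).obj T ⟶ X.F.obj i)
    (u : (yon S).obj T ⟶ (yon S).obj j.obj.left)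
    (h : n ≫ X.q i ≫ (yon S).map i.obj.hom = u ≫ (yon S).map j.obj.hom) : (yon S).obj T ⟶ X.F.obj j :=
  mid X n ≫ X.F.map (hm i j (bs X n) ((yon S).preimage u) (by
    apply (yon S).map_injective
    rw [(yon S).map_comp, (yon S).map_comp, Functor.map_preimage, map_bs, ← h, Category.assoc]))

theorem tr_eq {T : Over S} {i j k : R.arrows.category} (n : (yon S).obj T ⟶ X.F.obj i)
    (u : (yon S).obj T ⟶ (yon S).obj j.obj.left)
    (h : n ≫ X.q i ≫ (yon S).map i.obj.hom = u ≫ (yon S).map j.obj.hom) (f : k ⟶ i) (g : k ⟶ j)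
    (m : (yon S).obj T ⟶ X.F.obj k) (hf : m ≫ X.F.map f = n) (hg : m ≫ X.F.map g ≫ X.q j = u) :
    tr X i j n u h = m ≫ X.F.map g := by
  subst hf
  have hbs := bs_map X f m
  let s : ob i (bs X (m ≫ X.F.map f)) ⟶ k := ObjectProperty.homMk (Over.homMk (bs X m) (by
    change bs X m ≫ k.obj.hom = bs X (m ≫ X.F.map f) ≫ i.obj.hom
    rw [hbs, Category.assoc, hom_w]))
  have e1 : s ≫ f = obHom i (bs X (m ≫ X.F.map f)) := cat_hom_ext (by
    change bs X m ≫ f.hom.left = bs X (m ≫ X.F.map f)
    rw [hbs])
  have e2 : mid X (m ≫ X.F.map f) ≫ X.F.map s = m := by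
    apply (X.cart f).hom_ext
    · rw [Category.assoc, ← X.F.map_comp, e1, mid_map]
    · rw [Category.assoc, (X.cart s).w, ← Category.assoc, mid_q, Category.id_comp]
      exact map_bs X m
  have e3 : s ≫ g = hm i j (bs X (m ≫ X.F.map f)) ((yon S).preimage u) (by
      apply (yon S).map_injective
      rw [(yon S).map_comp, (yon S).map_comp, Functor.map_preimage, map_bs, ← h]
      simp only [Category.assoc]) := by
    apply cat_hom_ext
    change bs X m ≫ g.hom.left = (yon S).preimage u
    apply (yon S).map_injective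
    rw [(yon S).map_comp, map_bs, Category.assoc, ← (X.cart g).w, hg, Functor.map_preimage]
  unfold tr
  rw [← e3, X.F.map_comp, ← Category.assoc, e2]

/-- the descent datum of a cartesian diagram -/
noncomputable def toDD : K615.Glue.DD (X := (yon S).obj U) (ι := R.arrows.category) (fun i => (yon S).obj i.obj.left)
    (fun i => (yon S).map i.obj.hom) (fun i => X.F.obj i) (fun i => X.q i) where
  tr i j n u h := tr X i j n u h
  tr_ν i j n u h := by
    unfold tr
    rw [Category.assoc, (X.cart _).w, ← Category.assoc, mid_q, Category.id_comp]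
    exact Functor.map_preimage _ _
  tr_nat g i j n u h h' := by
    rw [tr_eq X _ _ h' (obHom i (bs X n)) (hm i j (bs X n) ((yon S).preimage u) (by
      apply (yon S).map_injective
      rw [(yon S).map_comp, (yon S).map_comp, Functor.map_preimage, map_bs, ← h, Category.assoc]))
      ((yon S).map g ≫ mid X n)]
    · unfold tr
      rw [Category.assoc]
    · rw [Category.assoc, mid_map]
    · rw [Category.assoc, (X.cart _).w, ← Category.assoc (mid X n), mid_q, Category.id_comp]
      congr 1
      exact Functor.map_preimage _ _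
  tr_self i n u h hu := by
    rw [tr_eq X n u h (𝟙 i) (𝟙 i) n (by rw [X.F.map_id, Category.comp_id]) (by rw [X.F.map_id, Category.id_comp, hu]),
      X.F.map_id, Category.comp_id]
  tr_tr i j k n u u' h h' h'' := by
    have e : (yon S).preimage u' ≫ k.obj.hom = bs X n ≫ i.obj.hom := by
      apply (yon S).map_injective
      rw [(yon S).map_comp, (yon S).map_comp, Functor.map_preimage, map_bs, ← h'', Category.assoc]
    rw [tr_eq X (tr X i j n u h) u' h' (hm i j (bs X n) ((yon S).preimage u) (by
      apply (yon S).map_injective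
      rw [(yon S).map_comp, (yon S).map_comp, Functor.map_preimage, map_bs, ← h, Category.assoc]))
      (hm i k (bs X n) ((yon S).preimage u') e) (mid X n) rfl (by
        rw [(X.cart _).w, ← Category.assoc, mid_q, Category.id_comp]
        exact Functor.map_preimage _ _)]
    rfl

end

theorem jSurj_yon (hR : R ∈ J S U) :
    K615.Pt.JSurj (X := (yon S).obj U) (ι := R.arrows.category) (fun i => (yon S).obj i.obj.left)
      (fun i => (yon S).map i.obj.hom) := by
  intro T x
  refine ⟨R.pullback ((yon S).preimage x), (J S).pullback_stable _ hR, fun T' g hg => ?_⟩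
  refine ⟨⟨Over.mk (g ≫ (yon S).preimage x), hg⟩, 𝟙 _, ?_⟩
  rw [Category.id_comp]
  change (yon S).map (g ≫ (yon S).preimage x) = _
  rw [(yon S).map_comp, Functor.map_preimage]

/-- **Descent of sheaves**: a cartesian diagram over a covering sieve descends. -/
theorem exists_des (X : Car R) : Nonempty (Des X) := by
  let D := toDD X
  refine ⟨⟨K615.Glue.glued D, K615.Glue.π D, fun i => K615.Glue.m D i, ?_, fun i => K615.Glue.isPullback i⟩⟩
  intro i j f
  apply K615.Pt.hom_ext
  intro T n
  rw [← Category.assoc]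
  apply K615.Glue.toSec_injective
  rw [K615.Glue.toSec_m, K615.Glue.toSec_m]
  refine K615.Glue.Sec.ext' ?_ fun k T' g u h h' => ?_
  · change (n ≫ X.F.map f) ≫ X.q j ≫ (yon S).map j.obj.hom = n ≫ X.q i ≫ (yon S).map i.obj.hom
    rw [Category.assoc, ← Category.assoc (X.F.map f), (X.cart f).w, Category.assoc, ← (yon S).map_comp, hom_w]
  · have hk : (yon S).map g ≫ n ≫ X.q i ≫ (yon S).map i.obj.hom = u ≫ (yon S).map k.obj.hom := h'.symm
    have hk1 : ((yon S).map g ≫ n) ≫ X.q i ≫ (yon S).map i.obj.hom = u ≫ (yon S).map k.obj.hom := by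
      rw [Category.assoc, hk]
    have hk2 : ((yon S).map g ≫ n ≫ X.F.map f) ≫ X.q j ≫ (yon S).map j.obj.hom = u ≫ (yon S).map k.obj.hom := by
      rw [← hk1]
      simp only [Category.assoc]
      rw [← Category.assoc (X.F.map f), (X.cart f).w, Category.assoc, ← (yon S).map_comp, hom_w]
    change tr X j k ((yon S).map g ≫ n ≫ X.F.map f) u hk2 = tr X i k ((yon S).map g ≫ n) u hk1
    have e : (yon S).preimage u ≫ k.obj.hom = bs X ((yon S).map g ≫ n) ≫ i.obj.hom := by
      apply (yon S).map_injective
      rw [(yon S).map_comp, (yon S).map_comp, Functor.map_preimage, map_bs, ← hk, Category.assoc, Category.assoc]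
    rw [tr_eq X _ u _ (obHom i (bs X ((yon S).map g ≫ n)) ≫ f) (hm i k (bs X ((yon S).map g ≫ n)) ((yon S).preimage u) e)
      (mid X ((yon S).map g ≫ n))]
    · rfl
    · rw [X.F.map_comp, ← Category.assoc, mid_map, Category.assoc]
    · rw [(X.cart _).w, ← Category.assoc, mid_q, Category.id_comp]
      exact Functor.map_preimage _ _

namespace Des

variable {X : Car R} (E : Des X)

theorem jSurj (hR : R ∈ J S U) : K615.Pt.JSurj (X := E.pt) (ι := R.arrows.category) (fun i => X.F.obj i)
    (fun i => E.c i) :=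
  (jSurj_yon hR).of_isPullback E.q _ _ (fun i => X.q i) (fun i => E.cart i)

/-- Points of the diagram with the same image in the descended sheaf come from a common point. -/
theorem exists_span {i j : R.arrows.category} {T : Over S} (y : (yon S).obj T ⟶ X.F.obj i)
    (y' : (yon S).obj T ⟶ X.F.obj j) (h : y ≫ E.c i = y' ≫ E.c j) :
    ∃ (k : R.arrows.category) (f : k ⟶ i) (g : k ⟶ j) (m : (yon S).obj T ⟶ X.F.obj k),
      m ≫ X.F.map f = y ∧ m ≫ X.F.map g = y' := by
  have hh : bs X y' ≫ j.obj.hom = bs X y ≫ i.obj.hom := by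
    apply (yon S).map_injective
    rw [(yon S).map_comp, (yon S).map_comp, map_bs, map_bs, Category.assoc, Category.assoc, ← (E.cart i).w,
      ← (E.cart j).w, ← Category.assoc, ← Category.assoc, h]
  refine ⟨ob i (bs X y), obHom i _, hm i j (bs X y) (bs X y') hh, mid X y, mid_map X y, ?_⟩
  apply (E.cart j).hom_ext
  · rw [Category.assoc, E.nat, ← E.nat (obHom i (bs X y)), ← Category.assoc, mid_map, h]
  · rw [Category.assoc, (X.cart _).w, ← Category.assoc, mid_q, Category.id_comp]
    exact map_bs X y'

theorem hom_ext (hR : R ∈ J S U) {Z : Sp S} {k k' : E.pt ⟶ Z} (h : ∀ i, E.c i ≫ k = E.c i ≫ k') : k = k' :=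
  (E.jSurj hR).ext h

/-- The descended sheaf is the colimit of the diagram. -/
theorem exists_hom (hR : R ∈ J S U) {Z : Sp S} (k : ∀ i, X.F.obj i ⟶ Z)
    (hk : ∀ {i j : R.arrows.category} (f : i ⟶ j), X.F.map f ≫ k j = k i) :
    ∃ m : E.pt ⟶ Z, ∀ i, E.c i ≫ m = k i := by
  refine (E.jSurj hR).exists_desc k ?_
  intro T i j y y' h
  obtain ⟨l, f, g, m, hf, hg⟩ := E.exists_span y y' h
  rw [← hf, ← hg, Category.assoc, Category.assoc, hk, hk]

end Des

/-- A square of sheaves is cartesian if it is so after base change along a jointly locally surjective family of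
the lower left corner. -/
theorem isPullback_of_jSurj {ι : Type*} {P Q X Z : Sp S} {f : P ⟶ Q} {p : P ⟶ X} {r : Q ⟶ Z} {g : X ⟶ Z}
    (w : f ≫ r = p ≫ g) {X' : ι → Sp S} {x : ∀ i, X' i ⟶ X} (hx : K615.Pt.JSurj X' x) {P' : ι → Sp S}
    {c : ∀ i, P' i ⟶ P} {p' : ∀ i, P' i ⟶ X' i} (sq : ∀ i, IsPullback (c i) (p' i) p (x i))
    (h : ∀ i, IsPullback (c i ≫ f) (p' i) r (x i ≫ g)) : IsPullback f p r g := by
  have hinj : ∀ (T : Over S) (a b : (yon S).obj T ⟶ P), a ≫ f = b ≫ f → a ≫ p = b ≫ p → a = b := by
    intro T a b h1 h2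
    obtain ⟨R, hR, H⟩ := hx T (a ≫ p)
    apply K615.Pt.pt_ext R hR
    intro T' k hk
    obtain ⟨i, y, hy⟩ := H T' k hk
    have ha : ((yon S).map k ≫ a) ≫ p = y ≫ x i := by rw [hy, Category.assoc]
    have hb : ((yon S).map k ≫ b) ≫ p = y ≫ x i := by rw [hy, Category.assoc, h2]
    rw [← (sq i).lift_fst _ _ ha, ← (sq i).lift_fst _ _ hb]
    congr 1
    apply (h i).hom_ext
    · rw [← Category.assoc, ← Category.assoc, (sq i).lift_fst, (sq i).lift_fst, Category.assoc, Category.assoc, h1]
    · rw [(sq i).lift_snd, (sq i).lift_snd]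
  refine K615.Pt.isPullback_of_pt w hinj ?_
  intro T a b hab
  obtain ⟨R, hR, H⟩ := hx T b
  have key : ∀ (T' : Over S) (k : T' ⟶ T), R k → ∃ d : (yon S).obj T' ⟶ P, d ≫ f = (yon S).map k ≫ a ∧
      d ≫ p = (yon S).map k ≫ b := by
    intro T' k hk
    obtain ⟨i, y, hy⟩ := H T' k hk
    have e : ((yon S).map k ≫ a) ≫ r = y ≫ x i ≫ g := by
      rw [← Category.assoc y, hy, Category.assoc, Category.assoc, hab]
    refine ⟨(h i).lift _ _ e ≫ c i, ?_, ?_⟩
    · rw [Category.assoc, (h i).lift_fst]
    · rw [Category.assoc, (sq i).w, ← Category.assoc, (h i).lift_snd, hy]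
  choose d hd1 hd2 using key
  obtain ⟨z, hz⟩ := K615.Pt.exists_glue R hR d (by
    intro T' T'' k l hk
    apply hinj
    · rw [hd1, Category.assoc, hd1, (yon S).map_comp, Category.assoc]
    · rw [hd2, Category.assoc, hd2, (yon S).map_comp, Category.assoc])
  refine ⟨z, ?_, ?_⟩
  · apply K615.Pt.pt_ext R hR
    intro T' k hk
    rw [← Category.assoc, hz T' k hk, hd1]
  · apply K615.Pt.pt_ext R hR
    intro T' k hk
    rw [← Category.assoc, hz T' k hk, hd2]

end K744.SpCar
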