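import Groth.Prelude.Def_AlgSt6
import Groth.Agent.AlgSt.K744.Fib

/-!
# `[X/G]` with sheaf torsors (`SpQuotSt`) is fibred in groupoids; base change of objects (helper744)
-/

set_option autoImplicit false
set_option backward.isDefEq.respectTransparency false
set_option backward.isDefEq.respectTransparency.types false

universe w v u

open CategoryTheory CategoryTheory.Limits MonoidalCategory CartesianMonoidalCategory MonObj GrpObj AlgebraicGeometry
open AlgSt

namespace K744.SpQ

variable {S : Scheme.{u}}

section BC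

variable {B : AlgSp.Sp S} {K : Precoverage Scheme.{u}}

/-- base change of local sections -/
theorem hasSecLoc_of_isPullback [K.IsStableUnderBaseChange] {T T' : Over S} {P P' : AlgSp.Sp S} {p : P' ⟶ P}
    {π' : P' ⟶ (AlgSp.yon S).obj T'} {π : P ⟶ (AlgSp.yon S).obj T} {f : T' ⟶ T}
    (h : IsPullback p π' π ((AlgSp.yon S).map f)) (hl : HasSecLoc K π) : HasSecLoc K π' := by
  obtain ⟨R, hR, H⟩ := hl
  refine ⟨R.pullbackArrows f.left, K.pullbackArrows_mem f.left hR, ?_⟩
  rintro S' g ⟨Z, q, hq⟩
  obtain ⟨s, hs⟩ := H q hq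
  let a : (Over.mk (pullback.snd q f.left ≫ T'.hom) : Over S) ⟶ Over.mk (q ≫ T.hom) :=
    Over.homMk (pullback.fst q f.left) (by
      change pullback.fst q f.left ≫ q ≫ T.hom = pullback.snd q f.left ≫ T'.hom
      rw [← Category.assoc, pullback.condition, Category.assoc, Over.w f])
  let b : (Over.mk (pullback.snd q f.left ≫ T'.hom) : Over S) ⟶ T' := Over.homMk (pullback.snd q f.left) rfl
  have hab : a ≫ (Over.homMk q : (Over.mk (q ≫ T.hom) : Over S) ⟶ T) = b ≫ f :=
    Over.OverMorphism.ext pullback.condition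
  refine ⟨h.lift ((AlgSp.yon S).map a ≫ s) ((AlgSp.yon S).map b) ?_, h.lift_snd _ _ _⟩
  rw [Category.assoc, hs, ← Functor.map_comp, hab, Functor.map_comp]

variable {G : Over B} [GrpObj G]

section

variable {P T V : Over B} (a : AlgSp.GAction G P) (π : P ⟶ T) (f : V ⟶ T)
  (hinv : a.act ≫ π = snd G P ≫ π)

/-- the action on the base change -/
noncomputable def bcAct : AlgSp.GAction G (pullback π f) where
  act := pullback.lift ((G ◁ pullback.fst π f) ≫ a.act) (snd G _ ≫ pullback.snd π f) (by
    rw [Category.assoc, hinv, whiskerLeft_snd_assoc, Category.assoc, pullback.condition])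
  one_act := by
    apply pullback.hom_ext
    · rw [Category.assoc, pullback.lift_fst, ← MonoidalCategory.whisker_exchange_assoc, a.one_act]
      simp
    · rw [Category.assoc, pullback.lift_snd, whiskerRight_snd_assoc]
      rfl
  mul_act := by
    apply pullback.hom_ext
    · simp only [Category.assoc, pullback.lift_fst]
      rw [← MonoidalCategory.whisker_exchange_assoc, a.mul_act]
      simp only [← MonoidalCategory.whiskerLeft_comp_assoc, pullback.lift_fst]
      simp
    · simp only [Category.assoc, pullback.lift_snd]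
      simp

theorem bcAct_fst : (bcAct a π f hinv).act ≫ pullback.fst π f = (G ◁ pullback.fst π f) ≫ a.act :=
  pullback.lift_fst _ _ _

theorem bcAct_snd : (bcAct a π f hinv).act ≫ pullback.snd π f = snd G _ ≫ pullback.snd π f :=
  pullback.lift_snd _ _ _

end

/-- pullback squares of sheaves over `B` are pullback squares of sheaves -/
theorem isPullback_left {A C D E : Over B} {t : A ⟶ C} {l : A ⟶ D} {r : C ⟶ E} {b : D ⟶ E} (h : IsPullback t l r b) :
    IsPullback t.left l.left r.left b.left := h.map (Over.forget B)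

theorem isPullback_of_left {A C D E : Over B} {t : A ⟶ C} {l : A ⟶ D} {r : C ⟶ E} {b : D ⟶ E}
    (h : IsPullback t.left l.left r.left b.left) : IsPullback t l r b :=
  IsPullback.of_map (Over.forget B) (Over.OverMorphism.ext h.w) h

variable {X : Over B} {aX : AlgSp.GAction G X}

/-- the pullback of an object of `[X/G]` -/
noncomputable def bc [K.IsStableUnderBaseChange] (A : SpQuotObj K G aX) {V : Over S} (f : V ⟶ A.base) :
    SpQuotObj K G aX where
  base := V
  b := (AlgSp.yon S).map f ≫ A.b
  P := pullback A.π (bHom f rfl)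
  act := bcAct A.act A.π (bHom f rfl) A.cart.w
  π := pullback.snd A.π (bHom f rfl)
  cart := by
    have h0 : IsPullback (pullback.fst A.π (bHom f rfl)) (pullback.snd A.π (bHom f rfl)) A.π (bHom f rfl) :=
      IsPullback.of_hasPullback _ _
    have h1 : IsPullback (G ◁ pullback.fst A.π (bHom f rfl)) (snd G (pullback A.π (bHom f rfl))) (snd G A.P)
        (pullback.fst A.π (bHom f rfl)) := isPullback_whiskerLeft' _
    have h2 := h1.paste_horiz A.cart
    rw [h0.w] at h2
    rw [← bcAct_fst A.act A.π (bHom f rfl) A.cart.w] at h2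
    exact IsPullback.of_right h2 (bcAct_snd A.act A.π (bHom f rfl) A.cart.w) h0
  loc := hasSecLoc_of_isPullback (isPullback_left (IsPullback.of_hasPullback A.π (bHom f rfl))) A.loc
  φ := pullback.fst A.π (bHom f rfl) ≫ A.φ
  eqv := by
    rw [← Category.assoc, bcAct_fst, Category.assoc, A.eqv, MonoidalCategory.whiskerLeft_comp, Category.assoc]

/-- the projection from the pullback -/
noncomputable def bcHom [K.IsStableUnderBaseChange] (A : SpQuotObj K G aX) {V : Over S} (f : V ⟶ A.base) :
    bc A f ⟶ A where
  base := f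
  wb := rfl
  top := pullback.fst A.π (bHom f rfl)
  eqv := bcAct_fst A.act A.π (bHom f rfl) A.cart.w
  cart := IsPullback.of_hasPullback _ _
  wφ := rfl

/-- Every arrow of `[X/G]` is strongly cartesian. -/
theorem isStronglyCartesian {A C : SpQuotObj K G aX} (φ : A ⟶ C) :
    (SpQuotObj.forget K G aX).IsStronglyCartesian ((SpQuotObj.forget K G aX).map φ) φ where
  universal_property' := fun {A'} g ψ hψ => by
    have hb : g ≫ φ.base = ψ.base :=
      IsHomLift.eq_of_isHomLift (SpQuotObj.forget K G aX) (g ≫ (SpQuotObj.forget K G aX).map φ) ψ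
    have hwb : (AlgSp.yon S).map g ≫ A.b = A'.b := by
      rw [← φ.wb, ← Category.assoc, ← Functor.map_comp, hb, ψ.wb]
    have hbb : bHom g hwb ≫ bHom φ.base φ.wb = bHom ψ.base ψ.wb := by
      ext : 1
      change (AlgSp.yon S).map g ≫ (AlgSp.yon S).map φ.base = (AlgSp.yon S).map ψ.base
      rw [← Functor.map_comp, hb]
    have hw : ψ.top ≫ C.π = (A'.π ≫ bHom g hwb) ≫ bHom φ.base φ.wb := by
      rw [ψ.cart.w, Category.assoc, hbb]
    let t : A'.P ⟶ A.P := φ.cart.lift ψ.top (A'.π ≫ bHom g hwb) hw
    have ht1 : t ≫ φ.top = ψ.top := φ.cart.lift_fst _ _ _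
    have ht2 : t ≫ A.π = A'.π ≫ bHom g hwb := φ.cart.lift_snd _ _ _
    let χ : A' ⟶ A :=
      { base := g
        wb := hwb
        top := t
        eqv := by
          apply φ.cart.hom_ext
          · rw [Category.assoc, ht1, ψ.eqv, ← ht1, MonoidalCategory.whiskerLeft_comp, Category.assoc, Category.assoc,
              ← φ.eqv]
          · rw [Category.assoc, ht2, ← Category.assoc, A'.cart.w, Category.assoc, Category.assoc, A.cart.w,
              whiskerLeft_snd_assoc, ht2]
        cart := by
          apply IsPullback.of_right (h₁₂ := φ.top) (h₂₂ := bHom φ.base φ.wb) (v₁₃ := C.π) _ ht2 φ.cart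
          rw [ht1, hbb]
          exact ψ.cart
        wφ := by
          rw [← φ.wφ, ← Category.assoc, ht1, ψ.wφ] }
    refine ⟨χ, ⟨?_, SpQuotObj.hom_ext hb ht1⟩, ?_⟩
    · exact IsHomLift.map (SpQuotObj.forget K G aX) χ
    · rintro χ' ⟨hχ', h2⟩
      have hg : g = χ'.base := IsHomLift.eq_of_isHomLift (SpQuotObj.forget K G aX) g χ'
      refine SpQuotObj.hom_ext hg.symm ?_
      apply φ.cart.hom_ext
      · rw [ht1, ← h2]; rfl
      · rw [χ'.cart.w, ht2]
        congr 1
        ext : 1
        exact congrArg (AlgSp.yon S).map hg.symm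

theorem isFibGrpd [K.IsStableUnderBaseChange] : FibCat.IsFibGrpd (SpQuotObj.forget K G aX) where
  exists_lift := fun {x} {V} f => ⟨bc x f, bcHom x f, IsHomLift.map (SpQuotObj.forget K G aX) (bcHom x f)⟩
  isStronglyCartesian := fun φ => isStronglyCartesian φ

end BC

end K744.SpQ
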