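import Groth.Agent.AlgSt.K744.SpCar
import Groth.Agent.AlgSt.K744.SpQFib
import Groth.Agent.AlgSt.K744.SecLoc
import Groth.Agent.AlgSt.K735.Fib
import Groth.Agent.Stk.K751.Test

/-!
# Descent for `[X/G]` with sheaf torsors: the underlying cartesian diagrams (helper744)
-/

set_option autoImplicit false
set_option backward.isDefEq.respectTransparency false
set_option backward.isDefEq.respectTransparency.types false

universe w v u

open CategoryTheory CategoryTheory.Limits MonoidalCategory CartesianMonoidalCategory MonObj GrpObj AlgebraicGeometry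
open AlgSt AlgSp

namespace K744.SpQ

variable {S : Scheme.{u}} {B : Sp S} {K : Precoverage Scheme.{u}} {G : Over B} [GrpObj G] {X : Over B}
  {aX : GAction G X} {U : Over S} {R : Sieve U} (D : Stk.sieveCat R ⥤ᵇ SpQuotSt K G aX)

/-- the isomorphism between the arrow and the base of the object -/
abbrev eb (i : R.arrows.category) : (D.obj i).base ⟶ i.obj.left := eqToHom (D.w_obj i)

theorem eb_nat {i j : R.arrows.category} (f : i ⟶ j) : (D.map f).base ≫ eb D j = eb D i ≫ f.hom.left := by
  have h := K735.Fib.map_map D f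
  change (D.map f).base = eqToHom _ ≫ f.hom.left ≫ eqToHom _ at h
  rw [h, Category.assoc, Category.assoc, eqToHom_trans, eqToHom_refl, Category.comp_id]

/-- the structure map of the torsor, to the representable of the arrow -/
noncomputable abbrev qq (i : R.arrows.category) : (D.obj i).P.left ⟶ (yon S).obj i.obj.left :=
  (D.obj i).π.left ≫ (yon S).map (eb D i)

theorem qq_cart {i j : R.arrows.category} (f : i ⟶ j) :
    IsPullback (D.map f).top.left (qq D i) (qq D j) ((yon S).map f.hom.left) := by
  have h1 := isPullback_left (D.map f).cart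
  have h2 : IsPullback ((yon S).map (D.map f).base) ((yon S).map (eb D i)) ((yon S).map (eb D j))
      ((yon S).map f.hom.left) :=
    IsPullback.of_vert_isIso ⟨by rw [← Functor.map_comp, ← Functor.map_comp, eb_nat]⟩
  exact h1.paste_vert h2

/-- the cartesian diagram of the sheaves `Y ×_B P_i` -/
noncomputable def carT (Y : Over B) : SpCar.Car R where
  F :=
    { obj := fun i => (Y ⊗ (D.obj i).P).left
      map := fun {i j} f => (Y ◁ (D.map f).top).left
      map_id := fun i => by
        have h : (D.map (𝟙 i)).top = 𝟙 (D.obj i).P := congrArg SpQuotObj.Hom.top (D.map_id i)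
        rw [h, MonoidalCategory.whiskerLeft_id]
        rfl
      map_comp := fun {i j k} f g => by
        have h : (D.map (f ≫ g)).top = (D.map f).top ≫ (D.map g).top := congrArg SpQuotObj.Hom.top (D.map_comp f g)
        rw [h, MonoidalCategory.whiskerLeft_comp]
        rfl }
  q i := (snd Y (D.obj i).P).left ≫ qq D i
  cart {i j} f := (isPullback_left (isPullback_whiskerLeft' (D.map f).top)).paste_vert (qq_cart D f)

/-- the cartesian diagram of the sheaves `P_i` -/
noncomputable def car : SpCar.Car R where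
  F :=
    { obj := fun i => (D.obj i).P.left
      map := fun {i j} f => (D.map f).top.left
      map_id := fun i => by
        have h : (D.map (𝟙 i)).top = 𝟙 (D.obj i).P := congrArg SpQuotObj.Hom.top (D.map_id i)
        rw [h]
        rfl
      map_comp := fun {i j k} f g => by
        have h : (D.map (f ≫ g)).top = (D.map f).top ≫ (D.map g).top := congrArg SpQuotObj.Hom.top (D.map_comp f g)
        rw [h]
        rfl }
  q i := qq D i
  cart {i j} f := qq_cart D f

/-- a descended sheaf over `B` -/
structure DesB where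
  P : Over B
  q : P.left ⟶ (yon S).obj U
  c : ∀ i : R.arrows.category, (D.obj i).P ⟶ P
  nat : ∀ {i j : R.arrows.category} (f : i ⟶ j), (D.map f).top ≫ c j = c i
  cart : ∀ i, IsPullback (c i).left (qq D i) q ((yon S).map i.obj.hom)

variable {D}

namespace DesB

variable (E : DesB D)

noncomputable def des : SpCar.Des (car D) where
  pt := E.P.left
  q := E.q
  c i := (E.c i).left
  nat f := congrArg (fun k => k.left) (E.nat f)
  cart i := E.cart i

noncomputable def desT (Y : Over B) : SpCar.Des (carT D Y) where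
  pt := (Y ⊗ E.P).left
  q := (snd Y E.P).left ≫ E.q
  c i := (Y ◁ E.c i).left
  nat {i j} f := by
    have h : (Y ◁ (D.map f).top) ≫ (Y ◁ E.c j) = Y ◁ E.c i := by
      rw [← MonoidalCategory.whiskerLeft_comp, E.nat]
    exact congrArg (fun k => k.left) h
  cart i := (isPullback_left (isPullback_whiskerLeft' (E.c i))).paste_vert (E.cart i)

variable (hR : R ∈ J S U)

include hR

theorem hom_ext {Z : Over B} {k k' : E.P ⟶ Z} (h : ∀ i, E.c i ≫ k = E.c i ≫ k') : k = k' := by
  ext : 1
  exact E.des.hom_ext hR (fun i => congrArg (fun k => k.left) (h i))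

theorem hom_extT (Y : Over B) {Z : Over B} {k k' : Y ⊗ E.P ⟶ Z} (h : ∀ i, (Y ◁ E.c i) ≫ k = (Y ◁ E.c i) ≫ k') :
    k = k' := by
  ext : 1
  exact (E.desT Y).hom_ext hR (fun i => congrArg (fun k => k.left) (h i))

theorem exists_hom {Z : Over B} (k : ∀ i : R.arrows.category, (D.obj i).P ⟶ Z)
    (hk : ∀ {i j : R.arrows.category} (f : i ⟶ j), (D.map f).top ≫ k j = k i) :
    ∃ m : E.P ⟶ Z, ∀ i, E.c i ≫ m = k i := by
  obtain ⟨m, hm⟩ := E.des.exists_hom hR (fun i => (k i).left) (fun {i j} f => congrArg (fun k => k.left) (hk f))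
  have hm' : ∀ i, (E.c i).left ≫ m = (k i).left := hm
  have hw : m ≫ Z.hom = E.P.hom := by
    refine E.des.hom_ext hR (fun i => ?_)
    change (E.c i).left ≫ m ≫ Z.hom = (E.c i).left ≫ E.P.hom
    rw [← Category.assoc, hm', Over.w, Over.w]
  exact ⟨Over.homMk m hw, fun i => by ext : 1; exact hm' i⟩

theorem exists_homT (Y : Over B) {Z : Over B} (k : ∀ i : R.arrows.category, Y ⊗ (D.obj i).P ⟶ Z)
    (hk : ∀ {i j : R.arrows.category} (f : i ⟶ j), (Y ◁ (D.map f).top) ≫ k j = k i) :
    ∃ m : Y ⊗ E.P ⟶ Z, ∀ i, (Y ◁ E.c i) ≫ m = k i := by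
  obtain ⟨m, hm⟩ := (E.desT Y).exists_hom hR (fun i => (k i).left)
    (fun {i j} f => congrArg (fun k => k.left) (hk f))
  have hm' : ∀ i, (Y ◁ E.c i).left ≫ m = (k i).left := hm
  have hw : m ≫ Z.hom = (Y ⊗ E.P).hom := by
    refine (E.desT Y).hom_ext hR (fun i => ?_)
    change (Y ◁ E.c i).left ≫ m ≫ Z.hom = (Y ◁ E.c i).left ≫ (Y ⊗ E.P).hom
    rw [← Category.assoc, hm', Over.w, Over.w]
  exact ⟨Over.homMk m hw, fun i => by ext : 1; exact hm' i⟩

end DesB

end K744.SpQ
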