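import Groth.Agent.AlgSt.K744.SpAlg
import Groth.Agent.AlgSt.K744.SpQStk
import Groth.Agent.Stk.K751.Inv
import Groth.Prelude.Def_AlgSt3

/-!
# Torsors that are algebraic spaces versus sheaf torsors (helper744), relative to S10104
-/

set_option autoImplicit false
set_option backward.isDefEq.respectTransparency false
set_option backward.isDefEq.respectTransparency.types false

universe v₂ u₂ w v u

open CategoryTheory CategoryTheory.Limits MonoidalCategory CartesianMonoidalCategory MonObj GrpObj AlgebraicGeometry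
open AlgSt AlgSp

namespace K744.SpSub

variable {S : Scheme.{u}}

/-- the inclusion of a full subcategory containing all objects is an equivalence -/
theorem isEquivOver_subIncl (𝒳 : BasedCategory.{v₂, u₂} (Over S)) (Q : 𝒳.obj → Prop) (h : ∀ A, Q A) :
    FibCat.IsEquivOver (AlgSt.subIncl 𝒳 Q) := by
  refine K735.Fib.isEquivOver_of ?_ ?_ ?_
  · intro a b φ ψ e
    exact ObjectProperty.hom_ext _ e
  · intro a b φ
    exact ⟨ObjectProperty.homMk φ, rfl⟩
  · intro y
    exact ⟨⟨y, h y⟩, Iso.refl y, K735.Fib.vert_id y⟩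

variable (h104 : ∀ (F : Sp S) (U : Space S) (p : U.obj ⟶ F),
      RepBySpWith (IsSurjectiveMor ⊓ LocP @Flat ⊓ LocP @LocallyOfFinitePresentation) p.hom → IsAlgSpace F)
  {B : Sp S} (hB : IsAlgSpace B) (G : Over B) [GrpObj G] (hG : IsAlgSpace G.left)

include h104 hB hG

theorem isEquivOver {X : Over B} (aX : GAction G X) :
    FibCat.IsEquivOver (AlgSt.subIncl (AlgSt.SpQuotSt Scheme.fppfPrecoverage G aX) (fun A => IsAlgSpace A.P.left)) :=
  isEquivOver_subIncl _ _ (fun A => SpAlg.isAlgSpace_P h104 hB hG A)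

theorem isStack {X : Over B} (aX : GAction G X) :
    Stk.IsStack (AlgSp.J S)
      (AlgSt.fullSub (AlgSt.SpQuotSt Scheme.fppfPrecoverage G aX) (fun A => IsAlgSpace A.P.left)) :=
  (K751.Inv.isStack_iff_of_isEquivOver (isEquivOver h104 hB G hG aX)).2 (SpQ.isStack aX)

end K744.SpSub
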